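import Mathlib

/-!
# An element of order three with a single cubic block on a module over the field with three elements

`b` of order dividing three acts on `E` with `|(b - 1) E| ≤ 9` and `(b - 1)² ≠ 0`. A `b`-invariant
four-group `{1, x, y, xy}` acting faithfully splits `E` as three lines permuted by `b` plus the common
fixed space, on which `b` is trivial.
-/

set_option autoImplicit false

namespace Cfsg.Agent.CubicBlock

/-- The module data. -/
structure Data (S E : Type*) [Group S] [AddCommGroup E] [Module (ZMod 3) E] where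
  ρ : Representation (ZMod 3) S E
  inj : Function.Injective ρ
  b : S
  b3 : b ^ 3 = 1
  small : Nat.card ↥(LinearMap.range (ρ b - LinearMap.id)) ≤ 9
  cubic : ∃ v : E, ρ b (ρ b v - v) - (ρ b v - v) ≠ 0

variable {S E : Type*} [Group S] [AddCommGroup E] [Module (ZMod 3) E]

theorem three_smul_eq_zero (v : E) : v + v + v = 0 := by
  have : ((1 : ZMod 3) + 1 + 1) • v = 0 := by
    rw [show ((1 : ZMod 3) + 1 + 1) = 0 from by decide, zero_smul]
  rwa [add_smul, add_smul, one_smul] at this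

theorem eq_zero_of_eq_neg {v : E} (h : v = -v) : v = 0 := by
  have h2 : v + v = 0 := by
    calc v + v = v + -v := by rw [← h]
      _ = 0 := by simp
  have h3 := three_smul_eq_zero v
  rw [h2, zero_add] at h3
  exact h3

theorem neg_add_self_eq (v : E) : -v - v = v := by
  have h := three_smul_eq_zero v
  calc -v - v = -v - v + (v + v + v) := by rw [h, add_zero]
    _ = v := by abel

namespace Data

variable (D : Data S E)

@[simp] theorem rho_mul (g h : S) (v : E) : D.ρ (g * h) v = D.ρ g (D.ρ h v) := by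
  rw [map_mul]; rfl

@[simp] theorem rho_one (v : E) : D.ρ 1 v = v := by rw [map_one]; rfl

theorem rho_inv_cancel (g : S) (v : E) : D.ρ g⁻¹ (D.ρ g v) = v := by
  rw [← D.rho_mul, inv_mul_cancel, D.rho_one]

theorem rho_cancel_inv (g : S) (v : E) : D.ρ g (D.ρ g⁻¹ v) = v := by
  rw [← D.rho_mul, mul_inv_cancel, D.rho_one]

theorem rho_injective (g : S) : Function.Injective (D.ρ g) :=
  Function.LeftInverse.injective (D.rho_inv_cancel g)

theorem eq_one_of_fix {g : S} (h : ∀ v, D.ρ g v = v) : g = 1 := by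
  apply D.inj
  rw [map_one]
  ext v
  exact h v

theorem commute_of_rho {g h : S} (e : ∀ v, D.ρ g (D.ρ h v) = D.ρ h (D.ρ g v)) : g * h = h * g := by
  apply D.inj
  ext v
  rw [D.rho_mul, D.rho_mul]
  exact e v

theorem binv : D.b⁻¹ = D.b * D.b := by
  refine inv_eq_of_mul_eq_one_right ?_
  rw [← pow_two, ← pow_succ', D.b3]

/-- The map `b - 1`. -/
def N : E →ₗ[ZMod 3] E := D.ρ D.b - LinearMap.id

theorem N_apply (v : E) : D.N v = D.ρ D.b v - v := rfl

theorem card_range_le : Nat.card ↥(LinearMap.range D.N) ≤ 9 := D.small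

theorem b_fix_of_fix_conj {g : S} {v : E} (hg : D.ρ D.b v = v) (hg' : D.ρ D.b (D.ρ g⁻¹ v) = D.ρ g⁻¹ v) :
    D.ρ (g * D.b * g⁻¹ * D.b⁻¹) v = v := by
  have h1 : D.ρ D.b⁻¹ v = v := by
    conv_lhs => rw [← hg]
    exact D.rho_inv_cancel _ _
  rw [D.rho_mul, h1, D.rho_mul, D.rho_mul, hg', D.rho_cancel_inv]

end Data

/-- A four-group `{1, x, y, x * y}` permuted cyclically by `b`. -/
structure Four (D : Data S E) where
  x : S
  y : S
  x1 : x ≠ 1
  xx : x * x = 1
  yy : y * y = 1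
  xy : x * y = y * x
  bx : D.b * x * D.b⁻¹ = y
  bxy : D.b * y * D.b⁻¹ = x * y

namespace Four

variable {D : Data S E} (F : Four D)

/-- The third involution. -/
def z : S := F.x * F.y

theorem bz : D.b * F.z * D.b⁻¹ = F.x := by
  calc D.b * F.z * D.b⁻¹ = (D.b * F.x * D.b⁻¹) * (D.b * F.y * D.b⁻¹) := by unfold z; group
    _ = F.y * (F.x * F.y) := by rw [F.bx, F.bxy]
    _ = F.x * (F.y * F.y) := by rw [← mul_assoc, ← F.xy, mul_assoc]
    _ = F.x := by rw [F.yy, mul_one]

theorem rho_xx (v : E) : D.ρ F.x (D.ρ F.x v) = v := by rw [← D.rho_mul, F.xx, D.rho_one]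
theorem rho_yy (v : E) : D.ρ F.y (D.ρ F.y v) = v := by rw [← D.rho_mul, F.yy, D.rho_one]
theorem rho_xy (v : E) : D.ρ F.x (D.ρ F.y v) = D.ρ F.y (D.ρ F.x v) := by
  rw [← D.rho_mul, F.xy, D.rho_mul]

theorem x_b (v : E) : D.ρ F.x (D.ρ D.b v) = D.ρ D.b (D.ρ F.z v) := by
  conv_lhs => rw [← F.bz]
  rw [D.rho_mul, D.rho_mul, D.rho_inv_cancel]

theorem y_b (v : E) : D.ρ F.y (D.ρ D.b v) = D.ρ D.b (D.ρ F.x v) := by
  conv_lhs => rw [← F.bx]
  rw [D.rho_mul, D.rho_mul, D.rho_inv_cancel]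

theorem rho_z (v : E) : D.ρ F.z v = D.ρ F.x (D.ρ F.y v) := D.rho_mul _ _ _

/-- Membership in the first line. -/
def In1 (v : E) : Prop := D.ρ F.x v = v ∧ D.ρ F.y v = -v

/-- Membership in the second line. -/
def In2 (v : E) : Prop := D.ρ F.x v = -v ∧ D.ρ F.y v = v

/-- Membership in the third line. -/
def In3 (v : E) : Prop := D.ρ F.x v = -v ∧ D.ρ F.y v = -v

/-- Membership in the common fixed space. -/
def In0 (v : E) : Prop := D.ρ F.x v = v ∧ D.ρ F.y v = v

theorem b_in1 {v : E} (h : F.In1 v) : F.In2 (D.ρ D.b v) := by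
  refine ⟨?_, ?_⟩
  · rw [F.x_b, F.rho_z, h.2, map_neg, h.1, map_neg]
  · rw [F.y_b, h.1]

theorem b_in2 {v : E} (h : F.In2 v) : F.In3 (D.ρ D.b v) := by
  refine ⟨?_, ?_⟩
  · rw [F.x_b, F.rho_z, h.2, h.1, map_neg]
  · rw [F.y_b, h.1, map_neg]

theorem b_in3 {v : E} (h : F.In3 v) : F.In1 (D.ρ D.b v) := by
  refine ⟨?_, ?_⟩
  · rw [F.x_b, F.rho_z, h.2, map_neg, h.1, neg_neg]
  · rw [F.y_b, h.1, map_neg]

theorem b_in0 {v : E} (h : F.In0 v) : F.In0 (D.ρ D.b v) := by
  refine ⟨?_, ?_⟩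
  · rw [F.x_b, F.rho_z, h.2, h.1]
  · rw [F.y_b, h.1]

theorem pi0 (v : E) : F.In0 (v + D.ρ F.x v + D.ρ F.y v + D.ρ F.x (D.ρ F.y v)) := by
  refine ⟨?_, ?_⟩ <;>
  simp only [map_add, F.rho_xx, F.rho_yy, F.rho_xy] <;> abel

theorem pi1 (v : E) : F.In1 (v + D.ρ F.x v - D.ρ F.y v - D.ρ F.x (D.ρ F.y v)) := by
  refine ⟨?_, ?_⟩ <;>
  simp only [map_add, map_sub, F.rho_xx, F.rho_yy, F.rho_xy] <;> abel

theorem pi2 (v : E) : F.In2 (v - D.ρ F.x v + D.ρ F.y v - D.ρ F.x (D.ρ F.y v)) := by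
  refine ⟨?_, ?_⟩ <;>
  simp only [map_add, map_sub, F.rho_xx, F.rho_yy, F.rho_xy] <;> abel

theorem pi3 (v : E) : F.In3 (v - D.ρ F.x v - D.ρ F.y v + D.ρ F.x (D.ρ F.y v)) := by
  refine ⟨?_, ?_⟩ <;>
  simp only [map_add, map_sub, F.rho_xx, F.rho_yy, F.rho_xy] <;> abel

theorem decomp (v : E) : ∃ a u w c : E, F.In0 a ∧ F.In1 u ∧ F.In2 w ∧ F.In3 c ∧ v = a + u + w + c := by
  refine ⟨_, _, _, _, F.pi0 v, F.pi1 v, F.pi2 v, F.pi3 v, ?_⟩
  have h := three_smul_eq_zero v
  calc v = v + (v + v + v) := by rw [h, add_zero]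
    _ = _ := by abel

/-- The four eigenspaces are independent. -/
theorem indep {a u w c : E} (ha : F.In0 a) (hu : F.In1 u) (hw : F.In2 w) (hc : F.In3 c)
    (h : a + u + w + c = 0) : a = 0 ∧ u = 0 ∧ w = 0 ∧ c = 0 := by
  have hx : a + u - w - c = 0 := by
    have := congrArg (D.ρ F.x) h
    rw [map_add, map_add, map_add, map_zero, ha.1, hu.1, hw.1, hc.1] at this
    rw [← this]; abel
  have hy : a - u + w - c = 0 := by
    have := congrArg (D.ρ F.y) h
    rw [map_add, map_add, map_add, map_zero, ha.2, hu.2, hw.2, hc.2] at this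
    rw [← this]; abel
  have hxy : a - u - w + c = 0 := by
    have := congrArg (D.ρ F.x) hy
    rw [map_sub, map_add, map_sub, map_zero, ha.1, hu.1, hw.1, hc.1] at this
    rw [← this]; abel
  have four : ∀ t : E, t + t + t + t = 0 → t = 0 := fun t ht => by
    have := three_smul_eq_zero t
    rwa [this, zero_add] at ht
  refine ⟨four a ?_, four u ?_, four w ?_, four c ?_⟩
  · calc a + a + a + a = (a + u + w + c) + (a + u - w - c) + (a - u + w - c) + (a - u - w + c) := by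
          abel
      _ = 0 := by rw [h, hx, hy, hxy]; abel
  · calc u + u + u + u = (a + u + w + c) + (a + u - w - c) - (a - u + w - c) - (a - u - w + c) := by
          abel
      _ = 0 := by rw [h, hx, hy, hxy]; abel
  · calc w + w + w + w = (a + u + w + c) - (a + u - w - c) + (a - u + w - c) - (a - u - w + c) := by
          abel
      _ = 0 := by rw [h, hx, hy, hxy]; abel
  · calc c + c + c + c = (a + u + w + c) - (a + u - w - c) - (a - u + w - c) + (a - u - w + c) := by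
          abel
      _ = 0 := by rw [h, hx, hy, hxy]; abel

theorem exists_v1 : ∃ v : E, v ≠ 0 ∧ F.In1 v := by
  by_contra hno
  push Not at hno
  have h1 : ∀ u, F.In1 u → u = 0 := fun u hu => by
    by_contra hne; exact hno u hne hu
  have h3 : ∀ u, F.In3 u → u = 0 := fun u hu =>
    D.rho_injective D.b (by rw [h1 _ (F.b_in3 hu), map_zero])
  have h2 : ∀ u, F.In2 u → u = 0 := fun u hu =>
    D.rho_injective D.b (by rw [h3 _ (F.b_in2 hu), map_zero])
  refine F.x1 (D.eq_one_of_fix fun v => ?_)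
  obtain ⟨a, u, w, c, ha, hu, hw, hc, rfl⟩ := F.decomp v
  rw [h1 u hu, h2 w hw, h3 c hc, add_zero, add_zero, add_zero]
  exact ha.1

/-- The basis vector of the first line. -/
noncomputable def v1 : E := Classical.choose F.exists_v1
/-- The basis vector of the second line. -/
noncomputable def v2 : E := D.ρ D.b F.v1
/-- The basis vector of the third line. -/
noncomputable def v3 : E := D.ρ D.b F.v2

theorem v1_ne : F.v1 ≠ 0 := (Classical.choose_spec F.exists_v1).1
theorem v1_in : F.In1 F.v1 := (Classical.choose_spec F.exists_v1).2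
theorem v2_in : F.In2 F.v2 := F.b_in1 F.v1_in
theorem v3_in : F.In3 F.v3 := F.b_in2 F.v2_in
theorem b_v3 : D.ρ D.b F.v3 = F.v1 := by
  rw [v3, v2, ← D.rho_mul, ← D.rho_mul, show D.b * D.b * D.b = D.b ^ 3 by rw [pow_succ, pow_two], D.b3, D.rho_one]

theorem in_smul {v : E} (k : ZMod 3) : (F.In0 v → F.In0 (k • v)) ∧ (F.In1 v → F.In1 (k • v)) ∧
    (F.In2 v → F.In2 (k • v)) ∧ (F.In3 v → F.In3 (k • v)) := by
  refine ⟨?_, ?_, ?_, ?_⟩ <;> (rintro ⟨h, h'⟩; exact ⟨by simp [map_smul, h], by simp [map_smul, h']⟩)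

theorem sub1 {u v : E} (hu : F.In1 u) (hv : F.In1 v) : F.In1 (u - v) :=
  ⟨by rw [map_sub, hu.1, hv.1], by rw [map_sub, hu.2, hv.2]; abel⟩

theorem neg1 {u : E} (hu : F.In1 u) : F.In1 (-u) :=
  ⟨by rw [map_neg, hu.1], by rw [map_neg, hu.2]⟩

theorem sub2 {u v : E} (hu : F.In2 u) (hv : F.In2 v) : F.In2 (u - v) :=
  ⟨by rw [map_sub, hu.1, hv.1]; abel, by rw [map_sub, hu.2, hv.2]⟩

variable [Finite E]

/-- `b` is trivial on the common fixed space and the first line has three elements. -/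
theorem counting : (∀ c, F.In0 c → D.ρ D.b c = c) ∧ ∀ u, F.In1 u → ∃ k : ZMod 3, u = k • F.v1 := by
  -- the basic independence
  have key : ∀ u w c, F.In1 u → F.In1 w → F.In0 c → D.N (u + D.ρ D.b w + c) = 0 →
      u = 0 ∧ w = 0 ∧ D.N c = 0 := by
    intro u w c hu hw hc h
    rw [Data.N_apply, map_add, map_add] at h
    have hbu := F.b_in1 hu
    have hbw := F.b_in1 hw
    have hbbw := F.b_in2 hbw
    have e : (D.ρ D.b c - c) + (-u) + (D.ρ D.b u - D.ρ D.b w) + D.ρ D.b (D.ρ D.b w) = 0 := by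
      rw [← h]; abel
    have hc' : F.In0 (D.ρ D.b c - c) := by
      have hbc := F.b_in0 hc
      exact ⟨by rw [map_sub, hbc.1, hc.1], by rw [map_sub, hbc.2, hc.2]⟩
    obtain ⟨h0, h1, -, h3⟩ := F.indep hc' (F.neg1 hu) (F.sub2 hbu hbw) hbbw e
    refine ⟨neg_eq_zero.mp h1, ?_, h0⟩
    exact D.rho_injective D.b (D.rho_injective D.b (by rw [h3, map_zero, map_zero]))
  constructor
  · intro c hc
    by_contra hne
    have hne' : D.N c ≠ 0 := sub_ne_zero.mpr hne
    let f : (ZMod 3 × ZMod 3 × ZMod 3) → ↥(LinearMap.range D.N) := fun k =>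
      ⟨D.N (k.1 • F.v1 + D.ρ D.b (k.2.1 • F.v1) + k.2.2 • c), LinearMap.mem_range_self _ _⟩
    have finj : Function.Injective f := by
      rintro ⟨i, j, k⟩ ⟨i', j', k'⟩ h
      have h' := congrArg Subtype.val h
      simp only [f] at h'
      rw [← sub_eq_zero, ← map_sub] at h'
      have e : i • F.v1 + D.ρ D.b (j • F.v1) + k • c - (i' • F.v1 + D.ρ D.b (j' • F.v1) + k' • c) =
          (i - i') • F.v1 + D.ρ D.b ((j - j') • F.v1) + (k - k') • c := by
        simp only [sub_smul, map_sub]; abel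
      rw [e] at h'
      obtain ⟨h1, h2, h3⟩ := key _ _ _ ((F.in_smul _).2.1 F.v1_in) ((F.in_smul _).2.1 F.v1_in)
        ((F.in_smul _).1 hc) h'
      rw [smul_eq_zero] at h1 h2
      rw [map_smul, smul_eq_zero] at h3
      simp only [F.v1_ne, hne', or_false, sub_eq_zero] at h1 h2 h3
      rw [h1, h2, h3]
    have := (Nat.card_le_card_of_injective f finj).trans D.card_range_le
    rw [Nat.card_prod, Nat.card_prod, Nat.card_zmod] at this
    omega
  · intro u hu
    by_contra hne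
    push Not at hne
    let f : ((ZMod 3 × ZMod 3) × ZMod 3) → ↥(LinearMap.range D.N) := fun k =>
      ⟨D.N (k.1.1 • F.v1 + k.1.2 • u + D.ρ D.b (k.2 • F.v1) + 0), LinearMap.mem_range_self _ _⟩
    have finj : Function.Injective f := by
      rintro ⟨⟨i, j⟩, k⟩ ⟨⟨i', j'⟩, k'⟩ h
      have h' := congrArg Subtype.val h
      simp only [f] at h'
      rw [← sub_eq_zero, ← map_sub] at h'
      have e : i • F.v1 + j • u + D.ρ D.b (k • F.v1) + 0 -
          (i' • F.v1 + j' • u + D.ρ D.b (k' • F.v1) + 0) =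
          ((i - i') • F.v1 + (j - j') • u) + D.ρ D.b ((k - k') • F.v1) + 0 := by
        simp only [sub_smul, map_sub]; abel
      rw [e] at h'
      have hin : F.In1 ((i - i') • F.v1 + (j - j') • u) := by
        have p := (F.in_smul (i - i')).2.1 F.v1_in
        have q := (F.in_smul (j - j')).2.1 hu
        exact ⟨by rw [map_add, p.1, q.1], by rw [map_add, p.2, q.2]; abel⟩
      obtain ⟨h1, h2, -⟩ := key _ _ _ hin ((F.in_smul _).2.1 F.v1_in)
        ⟨map_zero _, map_zero _⟩ h'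
      rw [smul_eq_zero] at h2
      simp only [F.v1_ne, or_false, sub_eq_zero] at h2
      by_cases hj : j - j' = 0
      · rw [hj, zero_smul, add_zero, smul_eq_zero] at h1
        simp only [F.v1_ne, or_false, sub_eq_zero] at h1
        rw [h1, h2, sub_eq_zero.mp hj]
      · refine absurd ?_ (hne (-((j - j')⁻¹ * (i - i'))))
        have : (j - j')⁻¹ • ((i - i') • F.v1 + (j - j') • u) = 0 := by rw [h1, smul_zero]
        rw [smul_add, smul_smul, smul_smul, inv_mul_cancel₀ hj, one_smul] at this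
        rw [neg_smul]
        exact eq_neg_of_add_eq_zero_right this
    have := (Nat.card_le_card_of_injective f finj).trans D.card_range_le
    rw [Nat.card_prod, Nat.card_prod, Nat.card_zmod] at this
    omega

theorem b_fix0 {c : E} (h : F.In0 c) : D.ρ D.b c = c := F.counting.1 c h

theorem in1_eq {u : E} (h : F.In1 u) : ∃ k : ZMod 3, u = k • F.v1 := F.counting.2 u h

theorem in3_eq {u : E} (h : F.In3 u) : ∃ k : ZMod 3, u = k • F.v3 := by
  obtain ⟨k, hk⟩ := F.in1_eq (F.b_in3 h)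
  exact ⟨k, D.rho_injective D.b (by rw [hk, map_smul, F.b_v3])⟩

theorem in2_eq {u : E} (h : F.In2 u) : ∃ k : ZMod 3, u = k • F.v2 := by
  obtain ⟨k, hk⟩ := F.in3_eq (F.b_in2 h)
  exact ⟨k, D.rho_injective D.b (by rw [hk, map_smul]; rfl)⟩

/-- Every vector is a fixed vector plus a combination of the three lines. -/
theorem coords (v : E) : ∃ a : E, ∃ i j k : ZMod 3, F.In0 a ∧
    v = a + i • F.v1 + j • F.v2 + k • F.v3 := by
  obtain ⟨a, u, w, c, ha, hu, hw, hc, rfl⟩ := F.decomp v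
  obtain ⟨i, rfl⟩ := F.in1_eq hu
  obtain ⟨j, rfl⟩ := F.in2_eq hw
  obtain ⟨k, rfl⟩ := F.in3_eq hc
  exact ⟨a, i, j, k, ha, rfl⟩

theorem coords_inj {a a' : E} {i i' j j' k k' : ZMod 3} (ha : F.In0 a) (ha' : F.In0 a')
    (h : a + i • F.v1 + j • F.v2 + k • F.v3 = a' + i' • F.v1 + j' • F.v2 + k' • F.v3) :
    a = a' ∧ i = i' ∧ j = j' ∧ k = k' := by
  have e : (a - a') + (i - i') • F.v1 + (j - j') • F.v2 + (k - k') • F.v3 = 0 := by
    rw [← sub_eq_zero] at h
    rw [← h]; simp only [sub_smul]; abel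
  obtain ⟨h0, h1, h2, h3⟩ := F.indep (a := a - a')
    ⟨by rw [map_sub, ha.1, ha'.1], by rw [map_sub, ha.2, ha'.2]⟩
    ((F.in_smul _).2.1 F.v1_in) ((F.in_smul _).2.2.1 F.v2_in) ((F.in_smul _).2.2.2 F.v3_in) e
  have h2ne : F.v2 ≠ 0 := fun e => F.v1_ne (D.rho_injective D.b (by
    rw [map_zero]; exact e))
  have h3ne : F.v3 ≠ 0 := fun e => h2ne (D.rho_injective D.b (by
    rw [map_zero]; exact e))
  rw [smul_eq_zero] at h1 h2 h3
  simp only [F.v1_ne, h2ne, h3ne, or_false, sub_eq_zero] at h1 h2 h3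
  exact ⟨sub_eq_zero.mp h0, h1, h2, h3⟩

end Four

end Cfsg.Agent.CubicBlock
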