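import Cfsg.Agent.CubicBlock.Setup
import Cfsg.Agent.LargeExtra.Quotient
import Cfsg.Prelude.Def_Transfer

/-!
# The extraspecial case

`R = [R, b]` has squares and centre inside `{1, j}` and contains a four-group permuted by `b`. Then
`R` is extraspecial of order `32` and is trivial off the four lines of the negative space of `j`.
-/

set_option autoImplicit false

namespace Cfsg.Agent.CubicBlock

open Subgroup

variable {S E : Type*} [Group S] [AddCommGroup E] [Module (ZMod 3) E]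

/-- Hypotheses of the extraspecial case. -/
structure ExtraCase {D : Data S E} (X : Setup D) (F : Four D) (j : S) : Prop where
  xR : F.x ∈ X.R
  yR : F.y ∈ X.R
  jR : j ∈ X.R
  j1 : j ≠ 1
  jj : j * j = 1
  jb : j * D.b = D.b * j
  jc : ∀ r ∈ X.R, j * r = r * j
  sq : ∀ r ∈ X.R, r * r = 1 ∨ r * r = j
  cent : ∀ c ∈ X.R, (∀ r ∈ X.R, c * r = r * c) → c = 1 ∨ c = j

namespace ExtraCase

variable {D : Data S E} {X : Setup D} {F : Four D} {j : S} (H : ExtraCase X F j)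

include H

theorem comm_mem {r s : S} (hr : r ∈ X.R) (hs : s ∈ X.R) :
    r * s * r⁻¹ * s⁻¹ = 1 ∨ r * s * r⁻¹ * s⁻¹ = j := by
  have e : r * s * r⁻¹ * s⁻¹ = (r * r) * ((r⁻¹ * s) * (r⁻¹ * s)) * (s⁻¹ * s⁻¹) := by group
  have jinv := inv_eq_of_mul_eq_one_right H.jj
  rcases H.sq r hr with e1 | e1 <;> rcases H.sq _ (X.R.mul_mem (X.R.inv_mem hr) hs) with e2 | e2 <;>
    rcases H.sq _ (X.R.inv_mem hs) with e3 | e3 <;> rw [e, e1, e2, e3] <;> simp [H.jj]

theorem conj_mem {r s : S} (hr : r ∈ X.R) (hs : s ∈ X.R) :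
    r * s * r⁻¹ = s ∨ r * s * r⁻¹ = j * s := by
  rcases H.comm_mem hr hs with h | h
  · exact Or.inl (mul_inv_eq_one.mp h)
  · exact Or.inr (mul_inv_eq_iff_eq_mul.mp h)

theorem zR : F.z ∈ X.R := X.R.mul_mem H.xR H.yR

theorem x_ne_j : F.x ≠ j := fun h => F.rot.rot.x1 (by
  have hy : F.y = F.x := by
    rw [← F.bx, h, ← H.jb, mul_inv_cancel_right]
  show F.z = 1
  unfold Four.z
  rw [hy, F.xx])

/-- Some element sends `x` to `j x` and fixes `y`. -/
theorem exists_swap : ∃ r ∈ X.R, r * F.x * r⁻¹ = j * F.x ∧ r * F.y * r⁻¹ = F.y := by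
  obtain ⟨r, hr, hrx⟩ : ∃ r ∈ X.R, r * F.x * r⁻¹ = j * F.x := by
    by_contra hno
    push Not at hno
    rcases H.cent F.x H.xR fun r hr => by
      rcases H.conj_mem hr H.xR with h | h
      · exact (mul_inv_eq_iff_eq_mul.mp h).symm
      · exact absurd h (hno r hr) with h | h
    · exact F.x1 h
    · exact H.x_ne_j h
  rcases H.conj_mem hr H.yR with hry | hry
  · exact ⟨r, hr, hrx, hry⟩
  have hrz : r * F.z * r⁻¹ = F.z := by
    calc r * F.z * r⁻¹ = (r * F.x * r⁻¹) * (r * F.y * r⁻¹) := by unfold Four.z; group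
      _ = j * (F.x * j) * F.y := by rw [hrx, hry]; simp [mul_assoc]
      _ = F.z := by rw [← H.jc _ H.xR, ← mul_assoc, H.jj, one_mul]; rfl
  obtain ⟨s, hs⟩ : ∃ s, s = D.b * r * D.b⁻¹ := ⟨_, rfl⟩
  have hsR : s ∈ X.R := hs ▸ X.bR r hr
  have conj : ∀ {u u' v v' : S}, D.b * u * D.b⁻¹ = u' → r * u * r⁻¹ = v → D.b * v * D.b⁻¹ = v' →
      s * u' * s⁻¹ = v' := by
    intro u u' v v' h1 h2 h3
    rw [← h3, ← h2, ← h1, hs]
    group
  have hsx : s * F.x * s⁻¹ = F.x := conj F.bz hrz F.bz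
  have hsy : s * F.y * s⁻¹ = j * F.y := conj F.bx hrx (by
    rw [show D.b * (j * F.x) * D.b⁻¹ = (D.b * j) * F.x * D.b⁻¹ by group, ← H.jb,
      show j * D.b * F.x * D.b⁻¹ = j * (D.b * F.x * D.b⁻¹) by group, F.bx])
  refine ⟨r * s, X.R.mul_mem hr hsR, ?_, ?_⟩
  · calc r * s * F.x * (r * s)⁻¹ = r * (s * F.x * s⁻¹) * r⁻¹ := by group
      _ = _ := by rw [hsx, hrx]
  · calc r * s * F.y * (r * s)⁻¹ = r * (s * F.y * s⁻¹) * r⁻¹ := by group
      _ = (r * j) * F.y * r⁻¹ := by rw [hsy, ← mul_assoc]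
      _ = j * (r * F.y * r⁻¹) := by rw [← H.jc r hr]; group
      _ = F.y := by rw [hry, ← mul_assoc, H.jj, one_mul]

variable [Finite E]

theorem fix_pos : ∀ r ∈ X.R, ∀ v, D.ρ j v = v → D.ρ r v = v :=
  X.fix_pos H.j1 H.jj H.jb H.jc H.jR

omit [Finite E] in
theorem rho_jj (v : E) : D.ρ j (D.ρ j v) = v := by rw [← D.rho_mul, H.jj, D.rho_one]

omit [Finite E] in
theorem j_comm {r : S} (hr : r ∈ X.R) (v : E) : D.ρ j (D.ρ r v) = D.ρ r (D.ρ j v) := by
  rw [← D.rho_mul, H.jc r hr, D.rho_mul]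

omit [Finite E] in
theorem j_comm_b (v : E) : D.ρ j (D.ρ D.b v) = D.ρ D.b (D.ρ j v) := by
  rw [← D.rho_mul, H.jb, D.rho_mul]

theorem j_v1 : D.ρ j F.v1 = -F.v1 := by
  have h1 : F.In1 (D.ρ j F.v1) := by
    refine ⟨?_, ?_⟩
    · rw [← H.j_comm H.xR, F.v1_in.1]
    · rw [← H.j_comm H.yR, F.v1_in.2, map_neg]
  obtain ⟨k, hk⟩ := F.in1_eq h1
  rcases (by decide : ∀ k : ZMod 3, k = 0 ∨ k = 1 ∨ k = -1) k with rfl | rfl | rfl
  · rw [zero_smul] at hk
    exact absurd (D.rho_injective j (hk.trans (map_zero _).symm)) F.v1_ne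
  · rw [one_smul] at hk
    exact absurd (eq_zero_of_eq_neg ((H.fix_pos _ H.yR _ hk).symm.trans F.v1_in.2)) F.v1_ne
  · rw [hk, neg_smul, one_smul]

theorem j_v2 : D.ρ j F.v2 = -F.v2 := by
  show D.ρ j (D.ρ D.b F.v1) = -F.v2
  rw [H.j_comm_b, H.j_v1, map_neg]; rfl

theorem j_v3 : D.ρ j F.v3 = -F.v3 := by
  show D.ρ j (D.ρ D.b F.v2) = -F.v3
  rw [H.j_comm_b, H.j_v2, map_neg]; rfl

omit [Finite E] in
/-- The four-group twisted by an element moving it. -/
theorem twist {r : S} (hr : r ∈ X.R) (hrx : r * F.x * r⁻¹ = j * F.x) (hry : r * F.y * r⁻¹ = F.y)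
    {v : E} (hv : D.ρ j v = -v) :
    D.ρ F.x (D.ρ r v) = -D.ρ r (D.ρ F.x v) ∧ D.ρ F.y (D.ρ r v) = D.ρ r (D.ρ F.y v) ∧
      D.ρ j (D.ρ r v) = -D.ρ r v := by
  have hx : F.x * r = j * (r * F.x) := by
    have e : r * F.x = j * F.x * r := mul_inv_eq_iff_eq_mul.mp hrx
    rw [e, mul_assoc, ← mul_assoc j j, H.jj, one_mul]
  have hy : F.y * r = r * F.y := (mul_inv_eq_iff_eq_mul.mp hry).symm
  refine ⟨?_, ?_, by rw [H.j_comm hr, hv, map_neg]⟩
  · rw [← D.rho_mul, hx, D.rho_mul, D.rho_mul, H.j_comm hr, H.j_comm H.xR, hv, map_neg, map_neg]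
  · rw [← D.rho_mul, hy, D.rho_mul]

/-- The fourth line: the negative space of `j` meets the fixed space of the four-group in a line
spanned by the image of `v2`. -/
theorem in0_neg {r : S} (hr : r ∈ X.R) (hrx : r * F.x * r⁻¹ = j * F.x)
    (hry : r * F.y * r⁻¹ = F.y) {a : E} (ha : F.In0 a) (haj : D.ρ j a = -a) :
    ∃ k : ZMod 3, a = k • D.ρ r F.v2 := by
  have hs : r⁻¹ * F.x * r⁻¹⁻¹ = j * F.x := by
    have e : r * F.x = j * F.x * r := mul_inv_eq_iff_eq_mul.mp hrx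
    calc r⁻¹ * F.x * r⁻¹⁻¹ = r⁻¹ * (F.x * r) := by group
      _ = r⁻¹ * (j * (r * F.x)) := by rw [e, mul_assoc j F.x r, ← mul_assoc j j, H.jj, one_mul]
      _ = j * F.x := by rw [← mul_assoc j r, H.jc r hr]; group
  have hsy : r⁻¹ * F.y * r⁻¹⁻¹ = F.y := by
    calc r⁻¹ * F.y * r⁻¹⁻¹ = r⁻¹ * (r * F.y * r⁻¹) * r⁻¹⁻¹ := by rw [hry]
      _ = F.y := by group
  obtain ⟨h1, h2, -⟩ := H.twist (X.R.inv_mem hr) hs hsy haj
  rw [ha.1] at h1
  rw [ha.2] at h2
  obtain ⟨k, hk⟩ := F.in2_eq (u := D.ρ r⁻¹ a) ⟨h1, h2⟩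
  refine ⟨k, ?_⟩
  rw [← map_smul, ← hk, D.rho_cancel_inv]

/-- The fourth vector. -/
theorem v0_props {r : S} (hr : r ∈ X.R) (hrx : r * F.x * r⁻¹ = j * F.x)
    (hry : r * F.y * r⁻¹ = F.y) :
    F.In0 (D.ρ r F.v2) ∧ D.ρ j (D.ρ r F.v2) = -D.ρ r F.v2 := by
  obtain ⟨h1, h2, h3⟩ := H.twist hr hrx hry H.j_v2
  refine ⟨⟨?_, ?_⟩, h3⟩
  · rw [h1, F.v2_in.1, map_neg, neg_neg]
  · rw [h2, F.v2_in.2]

/-- A vector in the negative space is a combination of the four lines. -/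
theorem neg_coords {r : S} (hr : r ∈ X.R) (hrx : r * F.x * r⁻¹ = j * F.x)
    (hry : r * F.y * r⁻¹ = F.y) {v : E} (hv : D.ρ j v = -v) :
    ∃ l i k m : ZMod 3, v = l • D.ρ r F.v2 + i • F.v1 + k • F.v2 + m • F.v3 := by
  obtain ⟨a, i, k, m, ha, e⟩ := F.coords v
  have haj : D.ρ j a = -a := by
    have e' : a = v - i • F.v1 - k • F.v2 - m • F.v3 := by rw [e]; abel
    rw [e', map_sub, map_sub, map_sub, map_smul, map_smul, map_smul, hv, H.j_v1, H.j_v2, H.j_v3,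
      smul_neg, smul_neg, smul_neg]
    abel
  obtain ⟨l, hl⟩ := H.in0_neg hr hrx hry ha haj
  exact ⟨l, i, k, m, by rw [e, hl]⟩

omit [Finite E] in
theorem split (v : E) : ∃ a c, D.ρ j a = a ∧ D.ρ j c = -c ∧ v = a + c :=
  ⟨-(v + D.ρ j v), -(v - D.ρ j v), by rw [map_neg, map_add, H.rho_jj]; abel,
    by rw [map_neg, map_sub, H.rho_jj]; abel, by
      have := three_smul_eq_zero v
      calc v = v - (v + v + v) := by rw [this, sub_zero]
        _ = _ := by abel⟩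

/-- The sign of an element commuting with the four-group on the fourth line is determined. -/
theorem fix_of_fix_lines {d : S} (hd : d ∈ X.R) (hx : d * F.x = F.x * d) (hy : d * F.y = F.y * d)
    (h1 : D.ρ d F.v1 = F.v1) (h2 : D.ρ d F.v2 = F.v2) (h3 : D.ρ d F.v3 = F.v3) : d = 1 := by
  obtain ⟨r, hr, hrx, hry⟩ := H.exists_swap
  obtain ⟨h0, h0j⟩ := H.v0_props hr hrx hry
  obtain ⟨p1, p2, p3⟩ := H.twist hr hrx hry H.j_v1
  have hrv1 : F.In3 (D.ρ r F.v1) := ⟨by rw [p1, F.v1_in.1], by rw [p2, F.v1_in.2, map_neg]⟩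
  obtain ⟨k, hk⟩ := F.in3_eq hrv1
  -- the commutator of `r` and `d` fixes `v3`, so it is trivial
  have hc : r * d * r⁻¹ = d := by
    rcases H.conj_mem hr hd with h | h
    · exact h
    · exfalso
      have e : D.ρ (r * d * r⁻¹) (D.ρ r F.v1) = D.ρ r F.v1 := by
        rw [← D.rho_mul, inv_mul_cancel_right, D.rho_mul, h1]
      rw [h, hk, D.rho_mul, map_smul, h3, map_smul, H.j_v3] at e
      have hk0 : k • F.v3 = 0 := eq_zero_of_eq_neg (by rw [← smul_neg]; exact e.symm)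
      rw [hk0] at hk
      exact F.v1_ne (D.rho_injective r (hk.trans (map_zero _).symm))
  have hdv0 : D.ρ d (D.ρ r F.v2) = D.ρ r F.v2 := by
    conv_lhs => rw [← hc]
    rw [← D.rho_mul, inv_mul_cancel_right, D.rho_mul, h2]
  refine D.eq_one_of_fix fun v => ?_
  obtain ⟨a, c, ha, hcj, rfl⟩ := H.split v
  obtain ⟨l, i, n, m, e⟩ := H.neg_coords hr hrx hry hcj
  rw [map_add, H.fix_pos d hd a ha, e]
  simp only [map_add, map_smul, hdv0, h1, h2, h3]

theorem sign1 {d : S} (hx : d * F.x = F.x * d) (hy : d * F.y = F.y * d) :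
    (D.ρ d F.v1 = F.v1 ∨ D.ρ d F.v1 = -F.v1) ∧ (D.ρ d F.v2 = F.v2 ∨ D.ρ d F.v2 = -F.v2) ∧
      (D.ρ d F.v3 = F.v3 ∨ D.ρ d F.v3 = -F.v3) := by
  have cx : ∀ v, D.ρ F.x (D.ρ d v) = D.ρ d (D.ρ F.x v) := fun v => by
    rw [← D.rho_mul, ← hx, D.rho_mul]
  have cy : ∀ v, D.ρ F.y (D.ρ d v) = D.ρ d (D.ρ F.y v) := fun v => by
    rw [← D.rho_mul, ← hy, D.rho_mul]
  have sgn : ∀ {v : E} {k : ZMod 3}, v ≠ 0 → D.ρ d v = k • v → D.ρ d v = v ∨ D.ρ d v = -v := by
    intro v k hv hk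
    rcases (by decide : ∀ k : ZMod 3, k = 0 ∨ k = 1 ∨ k = -1) k with rfl | rfl | rfl
    · rw [zero_smul] at hk
      exact absurd (D.rho_injective d (hk.trans (map_zero _).symm)) hv
    · exact Or.inl (by rw [hk, one_smul])
    · exact Or.inr (by rw [hk, neg_smul, one_smul])
  have v2ne : F.v2 ≠ 0 := fun e => F.v1_ne (D.rho_injective D.b (e.trans (map_zero _).symm))
  have v3ne : F.v3 ≠ 0 := fun e => v2ne (D.rho_injective D.b (e.trans (map_zero _).symm))
  refine ⟨?_, ?_, ?_⟩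
  · obtain ⟨k, hk⟩ := F.in1_eq (u := D.ρ d F.v1)
      ⟨by rw [cx, F.v1_in.1], by rw [cy, F.v1_in.2, map_neg]⟩
    exact sgn F.v1_ne hk
  · obtain ⟨k, hk⟩ := F.in2_eq (u := D.ρ d F.v2)
      ⟨by rw [cx, F.v2_in.1, map_neg], by rw [cy, F.v2_in.2]⟩
    exact sgn v2ne hk
  · obtain ⟨k, hk⟩ := F.in3_eq (u := D.ρ d F.v3)
      ⟨by rw [cx, F.v3_in.1, map_neg], by rw [cy, F.v3_in.2, map_neg]⟩
    exact sgn v3ne hk

omit H in
/-- The product `x ^ i * y ^ k * j ^ l`. -/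
def word (F : Four D) (j : S) (t : Bool × Bool × Bool) : S :=
  (if t.1 then F.x else 1) * ((if t.2.1 then F.y else 1) * (if t.2.2 then j else 1))

omit [Finite E] in
theorem word_mem (t : Bool × Bool × Bool) :
    word F j t ∈ X.R ∧ word F j t * F.x = F.x * word F j t ∧ word F j t * F.y = F.y * word F j t := by
  have cj1 : Commute j F.x := H.jc _ H.xR
  have cj2 : Commute j F.y := H.jc _ H.yR
  have cxy : Commute F.x F.y := F.xy
  obtain ⟨a, b, c⟩ := t
  refine ⟨X.R.mul_mem ?_ (X.R.mul_mem ?_ ?_), Commute.eq ?_, Commute.eq ?_⟩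
  · cases a <;> simp [H.xR, X.R.one_mem]
  · cases b <;> simp [H.yR, X.R.one_mem]
  · cases c <;> simp [H.jR, X.R.one_mem]
  · refine Commute.mul_left ?_ (Commute.mul_left ?_ ?_)
    · cases a <;> simp
    · cases b <;> simp [cxy.symm]
    · cases c <;> simp [cj1]
  · refine Commute.mul_left ?_ (Commute.mul_left ?_ ?_)
    · cases a <;> simp [cxy]
    · cases b <;> simp
    · cases c <;> simp [cj2]

theorem word_signs (t : Bool × Bool × Bool) :
    D.ρ (word F j t) F.v1 = (if xor t.2.1 t.2.2 then -F.v1 else F.v1) ∧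
    D.ρ (word F j t) F.v2 = (if xor t.1 t.2.2 then -F.v2 else F.v2) ∧
    D.ρ (word F j t) F.v3 = (if xor t.1 (xor t.2.1 t.2.2) then -F.v3 else F.v3) := by
  obtain ⟨a, b, c⟩ := t
  unfold word
  cases a <;> cases b <;> cases c <;>
    simp [F.v1_in.1, F.v1_in.2, F.v2_in.1, F.v2_in.2, F.v3_in.1, F.v3_in.2, H.j_v1, H.j_v2, H.j_v3]

theorem exists_word {d : S} (hd : d ∈ X.R) (hx : d * F.x = F.x * d) (hy : d * F.y = F.y * d) :
    ∃ t, word F j t = d := by
  obtain ⟨s1, s2, s3⟩ := H.sign1 hx hy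
  have pick : ∀ {v : E}, (D.ρ d v = v ∨ D.ρ d v = -v) → ∃ u : Bool, D.ρ d v = if u then -v else v := by
    rintro v (h | h)
    · exact ⟨false, by simp [h]⟩
    · exact ⟨true, by simp [h]⟩
  obtain ⟨a, ha⟩ := pick s1
  obtain ⟨b, hb⟩ := pick s2
  obtain ⟨c, hc⟩ := pick s3
  obtain ⟨t, e1, e2, e3⟩ : ∃ t : Bool × Bool × Bool, xor t.2.1 t.2.2 = a ∧ xor t.1 t.2.2 = b ∧
      xor t.1 (xor t.2.1 t.2.2) = c := by
    exact (by decide : ∀ a b c : Bool, ∃ t : Bool × Bool × Bool, xor t.2.1 t.2.2 = a ∧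
      xor t.1 t.2.2 = b ∧ xor t.1 (xor t.2.1 t.2.2) = c) a b c
  obtain ⟨w1, w2, w3⟩ := H.word_signs t
  rw [e1] at w1
  rw [e2] at w2
  rw [e3] at w3
  obtain ⟨hw, hwx, hwy⟩ := H.word_mem t
  have hdi : D.ρ d⁻¹ (D.ρ d F.v1) = F.v1 := D.rho_inv_cancel _ _
  refine ⟨t, (inv_mul_eq_one.mp ?_).symm⟩
  refine H.fix_of_fix_lines (X.R.mul_mem (X.R.inv_mem hd) hw) ?_ ?_ ?_ ?_ ?_
  · exact ((Commute.inv_left hx).mul_left hwx).eq
  · exact ((Commute.inv_left hy).mul_left hwy).eq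
  · rw [D.rho_mul, w1, ← ha, D.rho_inv_cancel]
  · rw [D.rho_mul, w2, ← hb, D.rho_inv_cancel]
  · rw [D.rho_mul, w3, ← hc, D.rho_inv_cancel]

theorem word_injective : Function.Injective (word F j) := by
  intro s t h
  obtain ⟨a1, a2, a3⟩ := H.word_signs s
  obtain ⟨b1, b2, b3⟩ := H.word_signs t
  rw [h] at a1 a2 a3
  have v2ne : F.v2 ≠ 0 := fun e => F.v1_ne (D.rho_injective D.b (e.trans (map_zero _).symm))
  have v3ne : F.v3 ≠ 0 := fun e => v2ne (D.rho_injective D.b (e.trans (map_zero _).symm))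
  have key : ∀ {v : E} {p q : Bool}, v ≠ 0 → (if p then -v else v) = (if q then -v else v) → p = q := by
    intro v p q hv e
    cases p <;> cases q <;> simp at e ⊢
    · exact hv (eq_zero_of_eq_neg e)
    · exact hv (eq_zero_of_eq_neg e.symm)
  have h1 := key F.v1_ne (a1.symm.trans b1)
  have h2 := key v2ne (a2.symm.trans b2)
  have h3 := key v3ne (a3.symm.trans b3)
  exact (by decide : ∀ s t : Bool × Bool × Bool, xor s.2.1 s.2.2 = xor t.2.1 t.2.2 →
    xor s.1 s.2.2 = xor t.1 t.2.2 → xor s.1 (xor s.2.1 s.2.2) = xor t.1 (xor t.2.1 t.2.2) → s = t)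
    s t h1 h2 h3

variable [Finite S]

theorem card_R : Nat.card X.R = 32 := by
  obtain ⟨r, hr, hrx, hry⟩ := H.exists_swap
  obtain ⟨s, hs⟩ : ∃ s, s = D.b * r * D.b⁻¹ := ⟨_, rfl⟩
  have hsR : s ∈ X.R := hs ▸ X.bR r hr
  have hrz : r * F.z * r⁻¹ = j * F.z := by
    calc r * F.z * r⁻¹ = (r * F.x * r⁻¹) * (r * F.y * r⁻¹) := by unfold Four.z; group
      _ = j * F.z := by rw [hrx, hry]; unfold Four.z; group
  have hsx : s * F.x * s⁻¹ = j * F.x := by
    calc s * F.x * s⁻¹ = D.b * (r * F.z * r⁻¹) * D.b⁻¹ := by rw [← F.bz, hs]; group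
      _ = (D.b * j) * F.z * D.b⁻¹ := by rw [hrz]; group
      _ = j * F.x := by rw [← H.jb, ← F.bz]; group
  have hsy : s * F.y * s⁻¹ = j * F.y := by
    calc s * F.y * s⁻¹ = D.b * (r * F.x * r⁻¹) * D.b⁻¹ := by rw [← F.bx, hs]; group
      _ = (D.b * j) * F.x * D.b⁻¹ := by rw [hrx]; group
      _ = j * F.y := by rw [← H.jb, ← F.bx]; group
  obtain ⟨rep, hrep⟩ : ∃ rep : Bool × Bool → S, ∀ p,
      rep p ∈ X.R ∧ rep p * F.x * (rep p)⁻¹ = (if p.1 then j * F.x else F.x) ∧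
      rep p * F.y * (rep p)⁻¹ = (if p.2 then j * F.y else F.y) := by
    refine Classical.axiomOfChoice (r := fun (p : Bool × Bool) (g : S) => g ∈ X.R ∧
      g * F.x * g⁻¹ = (if p.1 then j * F.x else F.x) ∧ g * F.y * g⁻¹ = (if p.2 then j * F.y else F.y)) ?_
    rintro ⟨a, b⟩
    cases a <;> cases b
    · exact ⟨1, X.R.one_mem, by simp, by simp⟩
    · refine ⟨r * s, X.R.mul_mem hr hsR, ?_, ?_⟩
      · show r * s * F.x * (r * s)⁻¹ = F.x
        calc r * s * F.x * (r * s)⁻¹ = r * (s * F.x * s⁻¹) * r⁻¹ := by group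
          _ = (r * j) * F.x * r⁻¹ := by rw [hsx]; group
          _ = j * (r * F.x * r⁻¹) := by rw [← H.jc r hr]; group
          _ = F.x := by rw [hrx, ← mul_assoc, H.jj, one_mul]
      · show r * s * F.y * (r * s)⁻¹ = j * F.y
        calc r * s * F.y * (r * s)⁻¹ = r * (s * F.y * s⁻¹) * r⁻¹ := by group
          _ = (r * j) * F.y * r⁻¹ := by rw [hsy]; group
          _ = j * (r * F.y * r⁻¹) := by rw [← H.jc r hr]; group
          _ = j * F.y := by rw [hry]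
    · exact ⟨r, hr, hrx, hry⟩
    · exact ⟨s, hsR, hsx, hsy⟩
  let f : (Bool × Bool) × (Bool × Bool × Bool) → X.R := fun u =>
    ⟨rep u.1 * word F j u.2, X.R.mul_mem (hrep u.1).1 (H.word_mem u.2).1⟩
  have jne : ∀ a : S, j * a ≠ a := fun a h => H.j1 (mul_eq_right.mp h)
  have hcl : ∀ (p : Bool × Bool) (t), rep p * word F j t * F.x * (rep p * word F j t)⁻¹ =
      (if p.1 then j * F.x else F.x) ∧
      rep p * word F j t * F.y * (rep p * word F j t)⁻¹ = (if p.2 then j * F.y else F.y) := by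
    intro p t
    obtain ⟨-, wx, wy⟩ := H.word_mem t
    refine ⟨?_, ?_⟩
    · rw [← (hrep p).2.1, mul_assoc (rep p) (word F j t) F.x, wx]; group
    · rw [← (hrep p).2.2, mul_assoc (rep p) (word F j t) F.y, wy]; group
  have finj : Function.Injective f := by
    rintro ⟨p, t⟩ ⟨p', t'⟩ h
    have h' := congrArg Subtype.val h
    simp only [f] at h'
    have e1 := (hcl p t).1
    have e2 := (hcl p t).2
    rw [h', (hcl p' t').1] at e1
    rw [h', (hcl p' t').2] at e2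
    have hp : p = p' := by
      obtain ⟨a, b⟩ := p
      obtain ⟨a', b'⟩ := p'
      cases a <;> cases a' <;> cases b <;> cases b' <;>
        first
          | rfl
          | exact absurd e1 (jne _)
          | exact absurd e1.symm (jne _)
          | exact absurd e2 (jne _)
          | exact absurd e2.symm (jne _)
    subst hp
    rw [H.word_injective (mul_left_cancel h')]
  have fsurj : Function.Surjective f := by
    rintro ⟨g, hg⟩
    obtain ⟨a, ha⟩ : ∃ a : Bool, g * F.x * g⁻¹ = if a then j * F.x else F.x := by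
      rcases H.conj_mem hg H.xR with h | h
      · exact ⟨false, h⟩
      · exact ⟨true, h⟩
    obtain ⟨b, hb⟩ : ∃ b : Bool, g * F.y * g⁻¹ = if b then j * F.y else F.y := by
      rcases H.conj_mem hg H.yR with h | h
      · exact ⟨false, h⟩
      · exact ⟨true, h⟩
    obtain ⟨h0, h1, h2⟩ := hrep (a, b)
    have comm : ∀ {u : S}, rep (a, b) * u * (rep (a, b))⁻¹ = g * u * g⁻¹ →
        (rep (a, b))⁻¹ * g * u = u * ((rep (a, b))⁻¹ * g) := by
      intro u h
      calc (rep (a, b))⁻¹ * g * u = (rep (a, b))⁻¹ * (g * u * g⁻¹) * g := by group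
        _ = u * ((rep (a, b))⁻¹ * g) := by rw [← h]; group
    obtain ⟨t, ht⟩ := H.exists_word (X.R.mul_mem (X.R.inv_mem h0) hg) (comm (h1.trans ha.symm))
      (comm (h2.trans hb.symm))
    exact ⟨((a, b), t), Subtype.ext (by simp [f, ht])⟩
  rw [← Nat.card_eq_of_bijective f ⟨finj, fsurj⟩]
  simp [Nat.card_eq_fintype_card]

omit [Finite E] in
theorem isExtraspecial : Cfsg.IsExtraspecial 2 ↥X.R := by
  refine LargeExtra.extraspecial_of (w := ⟨j, H.jR⟩) ?_ (fun e => H.j1 (congrArg Subtype.val e))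
    (Subtype.ext H.jj) (mem_center_iff.mpr fun r => Subtype.ext (H.jc r r.2).symm) (fun c hc => ?_)
    (fun a b => ?_) (fun a => (H.sq a a.2).imp Subtype.ext Subtype.ext) ?_
  · refine fun g => ⟨2, Subtype.ext ?_⟩
    show (g : S) ^ 4 = 1
    rw [show (g : S) ^ 4 = (g * g) * (g * g) by rw [← pow_two, ← pow_two, ← pow_mul]]
    rcases H.sq g g.2 with e | e <;> rw [e]
    · simp
    · exact H.jj
  · exact (H.cent c c.2 fun r hr => (congrArg Subtype.val (mem_center_iff.mp hc ⟨r, hr⟩)).symm).imp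
      Subtype.ext Subtype.ext
  · exact (H.comm_mem a.2 b.2).imp (fun e => Subtype.ext e) (fun e => Subtype.ext e)
  · obtain ⟨r, hr, hrx, -⟩ := H.exists_swap
    refine ⟨⟨r, hr⟩, ⟨F.x, H.xR⟩, fun h => ?_⟩
    have h' : r * F.x = F.x * r := congrArg Subtype.val h
    rw [h', mul_inv_cancel_right] at hrx
    exact H.j1 (mul_eq_right.mp hrx.symm)

theorem exists_eight : ∃ A : Subgroup S, A ≤ X.R ∧ Cfsg.IsElementaryAbelian 2 A ∧ Nat.card ↥A = 8 := by
  obtain ⟨A, hA⟩ : ∃ A : Subgroup S, A =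
      X.R ⊓ (centralizer ({F.x} : Set S) ⊓ centralizer ({F.y} : Set S)) := ⟨_, rfl⟩
  have mem : ∀ {d : S}, d ∈ A ↔ d ∈ X.R ∧ d * F.x = F.x * d ∧ d * F.y = F.y * d := by
    intro d
    rw [hA, mem_inf, mem_inf, mem_centralizer_singleton_iff, mem_centralizer_singleton_iff]
  have sq1 : ∀ d ∈ A, d * d = 1 := by
    intro d hd
    obtain ⟨hdR, hx, hy⟩ := mem.mp hd
    obtain ⟨t, rfl⟩ := H.exists_word hdR hx hy
    obtain ⟨s1, s2, s3⟩ := H.word_signs t
    refine H.fix_of_fix_lines (X.R.mul_mem hdR hdR) ((Commute.mul_left hx hx).eq)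
      ((Commute.mul_left hy hy).eq) ?_ ?_ ?_
    · rw [D.rho_mul, s1]; split_ifs with h <;> simp [s1, h]
    · rw [D.rho_mul, s2]; split_ifs with h <;> simp [s2, h]
    · rw [D.rho_mul, s3]; split_ifs with h <;> simp [s3, h]
  refine ⟨A, fun d hd => (mem.mp hd).1, ⟨⟨⟨fun a b => Subtype.ext ?_⟩⟩, fun a ha => ?_⟩, ?_⟩
  · show (a : S) * b = b * a
    have ha := sq1 _ a.2
    have hb := sq1 _ b.2
    have hab := sq1 _ (A.mul_mem a.2 b.2)
    calc (a : S) * b = ((a : S) * a) * (a * b) * ((b : S) * b) := by rw [ha, hb, one_mul, mul_one]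
      _ = (a : S) * ((a * b) * (a * b)) * b := by
          have : ((a : S) * a) * (a * b) = a * b := by rw [ha, one_mul]
          rw [hab, this, hb, mul_one, mul_one]
      _ = (b : S) * a := by
          rw [hab, mul_one]
          have h2 := inv_eq_of_mul_eq_one_right hab
          rw [mul_inv_rev, inv_eq_of_mul_eq_one_right ha, inv_eq_of_mul_eq_one_right hb] at h2
          exact h2.symm
  · rw [pow_two]; exact sq1 a ha
  · let f : Bool × Bool × Bool → A := fun t => ⟨word F j t, mem.mpr (H.word_mem t)⟩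
    have hf : Function.Bijective f := ⟨fun s t h => H.word_injective (congrArg Subtype.val h),
      fun d => by
        obtain ⟨hdR, hx, hy⟩ := mem.mp d.2
        obtain ⟨t, ht⟩ := H.exists_word hdR hx hy
        exact ⟨t, Subtype.ext ht⟩⟩
    rw [← Nat.card_eq_of_bijective f hf]
    simp [Nat.card_eq_fintype_card]

omit [Finite S] in
/-- The negative space of `j` is an irreducible faithful module. -/
theorem irreducible (N : Submodule (ZMod 3) E) (hN : ∀ v ∈ N, D.ρ j v = -v)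
    (hR : ∀ r ∈ X.R, ∀ v ∈ N, D.ρ r v ∈ N) (hb : ∀ v ∈ N, D.ρ D.b v ∈ N) :
    N = ⊥ ∨ ∀ v, D.ρ j v = -v → v ∈ N := by
  by_cases h0 : N = ⊥
  · exact Or.inl h0
  refine Or.inr fun v hv => ?_
  obtain ⟨r, hr, hrx, hry⟩ := H.exists_swap
  obtain ⟨n, hn, hn0⟩ := (Submodule.ne_bot_iff N).mp h0
  obtain ⟨l, i, k, m, e⟩ := H.neg_coords hr hrx hry (hN n hn)
  obtain ⟨g0, -⟩ := H.v0_props hr hrx hry
  have hxn : D.ρ F.x n ∈ N := hR _ H.xR n hn
  have hyn : D.ρ F.y n ∈ N := hR _ H.yR n hn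
  have hxyn : D.ρ F.x (D.ρ F.y n) ∈ N := hR _ H.xR _ hyn
  have p0 : l • D.ρ r F.v2 ∈ N := by
    have := N.add_mem (N.add_mem (N.add_mem hn hxn) hyn) hxyn
    have e' : n + D.ρ F.x n + D.ρ F.y n + D.ρ F.x (D.ρ F.y n) = l • D.ρ r F.v2 := by
      rw [e]
      simp only [map_add, map_smul, g0.1, g0.2, F.v1_in.1, F.v1_in.2, F.v2_in.1, F.v2_in.2, F.v3_in.1,
        F.v3_in.2, map_neg, smul_neg]
      have := three_smul_eq_zero (l • D.ρ r F.v2)
      calc _ = l • D.ρ r F.v2 + (l • D.ρ r F.v2 + l • D.ρ r F.v2 + l • D.ρ r F.v2) := by abel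
        _ = _ := by rw [this, add_zero]
    rwa [e'] at this
  have p1 : i • F.v1 ∈ N := by
    have := N.sub_mem (N.sub_mem (N.add_mem hn hxn) hyn) hxyn
    have e' : n + D.ρ F.x n - D.ρ F.y n - D.ρ F.x (D.ρ F.y n) = i • F.v1 := by
      rw [e]
      simp only [map_add, map_smul, g0.1, g0.2, F.v1_in.1, F.v1_in.2, F.v2_in.1, F.v2_in.2, F.v3_in.1,
        F.v3_in.2, map_neg, smul_neg]
      have := three_smul_eq_zero (i • F.v1)
      calc _ = i • F.v1 + (i • F.v1 + i • F.v1 + i • F.v1) := by abel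
        _ = _ := by rw [this, add_zero]
    rwa [e'] at this
  have p2 : k • F.v2 ∈ N := by
    have := N.sub_mem (N.add_mem (N.sub_mem hn hxn) hyn) hxyn
    have e' : n - D.ρ F.x n + D.ρ F.y n - D.ρ F.x (D.ρ F.y n) = k • F.v2 := by
      rw [e]
      simp only [map_add, map_smul, g0.1, g0.2, F.v1_in.1, F.v1_in.2, F.v2_in.1, F.v2_in.2, F.v3_in.1,
        F.v3_in.2, map_neg, smul_neg]
      have := three_smul_eq_zero (k • F.v2)
      calc _ = k • F.v2 + (k • F.v2 + k • F.v2 + k • F.v2) := by abel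
        _ = _ := by rw [this, add_zero]
    rwa [e'] at this
  have p3 : m • F.v3 ∈ N := by
    have e' : m • F.v3 = n - l • D.ρ r F.v2 - i • F.v1 - k • F.v2 := by rw [e]; abel
    rw [e']
    exact N.sub_mem (N.sub_mem (N.sub_mem hn p0) p1) p2
  have un : ∀ {c : ZMod 3} {w : E}, c ≠ 0 → c • w ∈ N → w ∈ N := fun {c w} hc h => by
    have := N.smul_mem c⁻¹ h
    rwa [smul_smul, inv_mul_cancel₀ hc, one_smul] at this
  have b12 : F.v1 ∈ N → F.v2 ∈ N := fun h => hb _ h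
  have b23 : F.v2 ∈ N → F.v3 ∈ N := fun h => hb _ h
  have b31 : F.v3 ∈ N → F.v1 ∈ N := fun h => F.b_v3 ▸ hb _ h
  have h2 : F.v2 ∈ N := by
    by_cases hi : i = 0
    · by_cases hk : k = 0
      · by_cases hm : m = 0
        · have hl : l ≠ 0 := by
            rintro rfl
            exact hn0 (by rw [e, hi, hk, hm]; simp)
          have := hR _ (X.R.inv_mem hr) _ (un hl p0)
          rwa [D.rho_inv_cancel] at this
        · exact b12 (b31 (un hm p3))
      · exact un hk p2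
    · exact b12 (un hi p1)
  have h0' : D.ρ r F.v2 ∈ N := hR r hr _ h2
  obtain ⟨l', i', k', m', rfl⟩ := H.neg_coords hr hrx hry hv
  exact N.add_mem (N.add_mem (N.add_mem (N.smul_mem _ h0') (N.smul_mem _ (b31 (b23 h2))))
    (N.smul_mem _ h2)) (N.smul_mem _ (b23 h2))

end ExtraCase

end Cfsg.Agent.CubicBlock
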