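import Cfsg.Agent.CubicBlock.Symplectic

/-!
# The two complementary subspaces in the cases of a four-group and of an extraspecial group
-/

set_option autoImplicit false

namespace Cfsg.Agent.CubicBlock

open Subgroup

variable {S E : Type*} [Group S] [AddCommGroup E] [Module (ZMod 3) E] {D : Data S E}

/-- What is asked of the pair of subspaces. -/
def GoodPair (X : Setup D) : Prop :=
  ∃ F₀ F₁ : Submodule (ZMod 3) E, F₀ ⊓ F₁ = ⊥ ∧ F₀ ⊔ F₁ = ⊤ ∧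
    (∀ r ∈ X.R, ∀ v ∈ F₁, D.ρ r v = v) ∧ (∀ r ∈ X.R ⊔ zpowers D.b, ∀ v ∈ F₀, D.ρ r v ∈ F₀) ∧
    (∀ r ∈ X.R ⊔ zpowers D.b, (∀ v ∈ F₀, D.ρ r v = v) → r = 1) ∧
    (∀ N : Submodule (ZMod 3) E, N ≤ F₀ →
      (∀ r ∈ X.R ⊔ zpowers D.b, ∀ v ∈ N, D.ρ r v ∈ N) → N = ⊥ ∨ N = F₀)

theorem goodPair_of [Finite S] (X : Setup D) (F₀ F₁ : Submodule (ZMod 3) E)
    (hd : ∀ v ∈ F₀, v ∈ F₁ → v = 0) (hs : ∀ v, ∃ a ∈ F₀, ∃ c ∈ F₁, v = a + c)
    (hR1 : ∀ r ∈ X.R, ∀ v ∈ F₁, D.ρ r v = v) (hb1 : ∀ v ∈ F₁, D.ρ D.b v = v)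
    (hR0 : ∀ r ∈ X.R, ∀ v ∈ F₀, D.ρ r v ∈ F₀) (hb0 : ∀ v ∈ F₀, D.ρ D.b v ∈ F₀)
    (hirr : ∀ N : Submodule (ZMod 3) E, N ≤ F₀ → (∀ r ∈ X.R, ∀ v ∈ N, D.ρ r v ∈ N) →
      (∀ v ∈ N, D.ρ D.b v ∈ N) → N = ⊥ ∨ F₀ ≤ N) :
    GoodPair X := by
  have hfix : X.R ⊔ zpowers D.b ≤ fixer D (F₁ : Set E) :=
    sup_le (fun r hr v hv => hR1 r hr v hv) (zpowers_le.mpr hb1)
  let St : Subgroup S :=
    { carrier := {g | (∀ v ∈ F₀, D.ρ g v ∈ F₀) ∧ ∀ v ∈ F₀, D.ρ g⁻¹ v ∈ F₀}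
      mul_mem' := fun {a c} ha hc => ⟨fun v hv => by rw [D.rho_mul]; exact ha.1 _ (hc.1 v hv),
        fun v hv => by rw [mul_inv_rev, D.rho_mul]; exact hc.2 _ (ha.2 v hv)⟩
      one_mem' := ⟨fun v hv => by rwa [D.rho_one], fun v hv => by rwa [inv_one, D.rho_one]⟩
      inv_mem' := fun {a} ha => ⟨ha.2, fun v hv => by rw [inv_inv]; exact ha.1 v hv⟩ }
  have hst : X.R ⊔ zpowers D.b ≤ St :=
    sup_le (fun r hr => ⟨hR0 r hr, hR0 _ (X.R.inv_mem hr)⟩)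
      (zpowers_le.mpr ⟨hb0, fun v hv => by rw [D.binv, D.rho_mul]; exact hb0 _ (hb0 v hv)⟩)
  refine ⟨F₀, F₁, (Submodule.eq_bot_iff _).mpr fun v hv => hd v hv.1 hv.2,
    (Submodule.eq_top_iff'.mpr fun v => ?_), hR1, fun r hr v hv => (hst hr).1 v hv, ?_, ?_⟩
  · obtain ⟨a, ha, c, hc, rfl⟩ := hs v
    exact Submodule.add_mem_sup ha hc
  · intro r hr h
    refine D.eq_one_of_fix fun v => ?_
    obtain ⟨a, ha, c, hc, rfl⟩ := hs v
    rw [map_add, h a ha, hfix hr c hc]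
  · intro N hN hinv
    rcases hirr N hN (fun r hr => hinv r (mem_sup_left hr))
      (hinv D.b (mem_sup_right (mem_zpowers D.b))) with h | h
    · exact Or.inl h
    · exact Or.inr (le_antisymm hN h)

variable [Finite S] [Finite E]

omit [Finite S] in
theorem four_card {X : Setup D} {F : Four D} (hx : F.x ∈ X.R) (hy : F.y ∈ X.R)
    (h : ∀ r ∈ X.R, r = 1 ∨ r = F.x ∨ r = F.y ∨ r = F.z) :
    Cfsg.IsElementaryAbelian 2 X.R ∧ Nat.card X.R = 4 := by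
  classical
  have hz1 : F.z ≠ 1 := fun e => F.x1 (by rw [← F.bz, e]; group)
  have hy1 : F.y ≠ 1 := fun e => F.x1 (by
    have := F.bxy
    rw [e, mul_one, mul_one, mul_inv_cancel] at this
    exact this.symm)
  have hxy : F.x ≠ F.y := fun e => hz1 (by unfold Four.z; rw [← e, F.xx])
  have hxz : F.x ≠ F.z := fun e => hy1 (mul_left_cancel (a := F.x) (by rw [mul_one]; exact e.symm))
  have hyz : F.y ≠ F.z := fun e => F.x1 (mul_right_cancel (b := F.y) (by rw [one_mul]; exact e.symm))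
  have hzz : F.z * F.z = 1 := by
    unfold Four.z
    rw [mul_assoc, ← mul_assoc F.y, ← F.xy, mul_assoc, F.yy, mul_one, F.xx]
  have exp : ∀ r ∈ X.R, r * r = 1 := fun r hr => by
    rcases h r hr with rfl | rfl | rfl | rfl
    · exact mul_one 1
    · exact F.xx
    · exact F.yy
    · exact hzz
  refine ⟨⟨⟨⟨fun a c => Subtype.ext ?_⟩⟩, fun a ha => ?_⟩, ?_⟩
  · show (a : S) * c = c * a
    have h' := inv_eq_of_mul_eq_one_right (exp _ (X.R.mul_mem a.2 c.2))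
    rw [mul_inv_rev, inv_eq_of_mul_eq_one_right (exp _ a.2), inv_eq_of_mul_eq_one_right (exp _ c.2)] at h'
    exact h'.symm
  · rw [pow_two]; exact exp a ha
  · have e : (X.R : Set S) = ↑({1, F.x, F.y, F.z} : Finset S) := by
      ext r
      simp only [SetLike.mem_coe, Finset.coe_insert, Finset.coe_singleton, Set.mem_insert_iff,
        Set.mem_singleton_iff]
      refine ⟨h r, ?_⟩
      rintro (rfl | rfl | rfl | rfl)
      · exact X.R.one_mem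
      · exact hx
      · exact hy
      · exact X.R.mul_mem hx hy
    calc Nat.card X.R = Nat.card ↥(X.R : Set S) := rfl
      _ = Nat.card ↥(↑({1, F.x, F.y, F.z} : Finset S) : Set S) := by rw [e]
      _ = 4 := by
          simp only [Finset.coe_sort_coe, Nat.card_eq_fintype_card, Fintype.card_coe]
          simp [F.x1.symm, hy1.symm, hz1.symm, hxy, hxz, hyz]

theorem four_goodPair {X : Setup D} {F : Four D} (hx : F.x ∈ X.R) (hy : F.y ∈ X.R)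
    (h : ∀ r ∈ X.R, r = 1 ∨ r = F.x ∨ r = F.y ∨ r = F.z) : GoodPair X := by
  obtain ⟨F₀, hF₀⟩ : ∃ F₀ : Submodule (ZMod 3) E, F₀ =
      LinearMap.ker (LinearMap.id + D.ρ F.x + D.ρ F.y + (D.ρ F.x).comp (D.ρ F.y)) := ⟨_, rfl⟩
  obtain ⟨F₁, hF₁⟩ : ∃ F₁ : Submodule (ZMod 3) E, F₁ =
      LinearMap.ker (D.ρ F.x - LinearMap.id) ⊓ LinearMap.ker (D.ρ F.y - LinearMap.id) := ⟨_, rfl⟩
  have m0 : ∀ v, v ∈ F₀ ↔ v + D.ρ F.x v + D.ρ F.y v + D.ρ F.x (D.ρ F.y v) = 0 := fun v => by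
    rw [hF₀]; simp
  have m1 : ∀ v, v ∈ F₁ ↔ F.In0 v := fun v => by
    rw [hF₁]; simp [Four.In0, sub_eq_zero]
  have four : ∀ v : E, v + v + v + v = v := fun v => by rw [three_smul_eq_zero v, zero_add]
  have e0 : ∀ v, F.In0 v → v + D.ρ F.x v + D.ρ F.y v + D.ρ F.x (D.ρ F.y v) = v := fun v hv => by
    rw [hv.2, hv.1, four]
  refine goodPair_of X F₀ F₁ (fun v h0 h1 => ?_) (fun v => ?_) ?_ (fun v hv => F.b_fix0 ((m1 v).mp hv))
    ?_ ?_ ?_
  · rw [← e0 v ((m1 v).mp h1)]; exact (m0 v).mp h0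
  · obtain ⟨p, hp⟩ : ∃ p, p = v + D.ρ F.x v + D.ρ F.y v + D.ρ F.x (D.ρ F.y v) := ⟨_, rfl⟩
    have hp0 : F.In0 p := hp ▸ F.pi0 v
    refine ⟨v - p, (m0 _).mpr ?_, p, (m1 p).mpr hp0, (sub_add_cancel v p).symm⟩
    simp only [map_sub]
    calc _ = (v + D.ρ F.x v + D.ρ F.y v + D.ρ F.x (D.ρ F.y v)) -
          (p + D.ρ F.x p + D.ρ F.y p + D.ρ F.x (D.ρ F.y p)) := by abel
      _ = 0 := by rw [e0 p hp0, ← hp, sub_self]
  · intro r hr v hv
    obtain ⟨h1, h2⟩ := (m1 v).mp hv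
    rcases h r hr with rfl | rfl | rfl | rfl
    · exact D.rho_one v
    · exact h1
    · exact h2
    · rw [F.rho_z, h2, h1]
  · have hxv : ∀ v ∈ F₀, D.ρ F.x v ∈ F₀ := fun v hv => by
      rw [m0] at hv ⊢
      simp only [F.rho_xx, ← F.rho_xy]
      rw [← hv]; abel
    have hyv : ∀ v ∈ F₀, D.ρ F.y v ∈ F₀ := fun v hv => by
      rw [m0] at hv ⊢
      simp only [F.rho_yy]
      rw [← hv]; abel
    intro r hr v hv
    rcases h r hr with rfl | rfl | rfl | rfl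
    · rwa [D.rho_one]
    · exact hxv v hv
    · exact hyv v hv
    · rw [F.rho_z]; exact hxv _ (hyv v hv)
  · intro v hv
    rw [m0] at hv ⊢
    have e : D.ρ F.x (D.ρ F.y (D.ρ D.b v)) = D.ρ D.b (D.ρ F.y v) := by
      rw [F.y_b, F.x_b, F.rho_z, ← F.rho_xy v, F.rho_xx]
    rw [e, F.x_b, F.y_b, F.rho_z]
    simp only [← map_add]
    rw [show v + D.ρ F.x (D.ρ F.y v) + D.ρ F.x v + D.ρ F.y v = 0 by rw [← hv]; abel, map_zero]
  · intro N hN hNR hNb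
    by_cases h0 : N = ⊥
    · exact Or.inl h0
    refine Or.inr fun w hw => ?_
    obtain ⟨n, hn, hn0⟩ := (Submodule.ne_bot_iff N).mp h0
    have a0 : ∀ {v a : E} {i j k : ZMod 3}, v ∈ F₀ → F.In0 a →
        v = a + i • F.v1 + j • F.v2 + k • F.v3 → a = 0 := fun {v a i j k} hv ha e => by
      have hv' := (m0 v).mp hv
      rw [e] at hv'
      simp only [map_add, map_smul, ha.1, ha.2, F.v1_in.1, F.v1_in.2, F.v2_in.1, F.v2_in.2, F.v3_in.1,
        F.v3_in.2, map_neg, smul_neg] at hv'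
      rw [← four a, ← hv']
      abel
    obtain ⟨a, i, k, m, ha, e⟩ := F.coords n
    rw [a0 (hN hn) ha e, zero_add] at e
    have hxn : D.ρ F.x n ∈ N := hNR _ hx n hn
    have hyn : D.ρ F.y n ∈ N := hNR _ hy n hn
    have hxyn : D.ρ F.x (D.ρ F.y n) ∈ N := hNR _ hx _ hyn
    have p1 : i • F.v1 ∈ N := by
      have := N.sub_mem (N.sub_mem (N.add_mem hn hxn) hyn) hxyn
      have e' : n + D.ρ F.x n - D.ρ F.y n - D.ρ F.x (D.ρ F.y n) = i • F.v1 := by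
        rw [← four (i • F.v1), e]
        simp only [map_add, map_smul, F.v1_in.1, F.v1_in.2, F.v2_in.1, F.v2_in.2, F.v3_in.1,
          F.v3_in.2, map_neg, smul_neg]
        abel
      rwa [e'] at this
    have p2 : k • F.v2 ∈ N := by
      have := N.sub_mem (N.add_mem (N.sub_mem hn hxn) hyn) hxyn
      have e' : n - D.ρ F.x n + D.ρ F.y n - D.ρ F.x (D.ρ F.y n) = k • F.v2 := by
        rw [← four (k • F.v2), e]
        simp only [map_add, map_smul, F.v1_in.1, F.v1_in.2, F.v2_in.1, F.v2_in.2, F.v3_in.1,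
          F.v3_in.2, map_neg, smul_neg]
        abel
      rwa [e'] at this
    have p3 : m • F.v3 ∈ N := by
      have e' : m • F.v3 = n - i • F.v1 - k • F.v2 := by rw [e]; abel
      rw [e']
      exact N.sub_mem (N.sub_mem hn p1) p2
    have un : ∀ {c : ZMod 3} {u : E}, c ≠ 0 → c • u ∈ N → u ∈ N := fun {c u} hc h' => by
      have := N.smul_mem c⁻¹ h'
      rwa [smul_smul, inv_mul_cancel₀ hc, one_smul] at this
    have b12 : F.v1 ∈ N → F.v2 ∈ N := fun h' => hNb _ h'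
    have b23 : F.v2 ∈ N → F.v3 ∈ N := fun h' => hNb _ h'
    have b31 : F.v3 ∈ N → F.v1 ∈ N := fun h' => F.b_v3 ▸ hNb _ h'
    have h2 : F.v2 ∈ N := by
      by_cases hi : i = 0
      · by_cases hk : k = 0
        · by_cases hm : m = 0
          · exact absurd (by rw [e, hi, hk, hm]; simp) hn0
          · exact b12 (b31 (un hm p3))
        · exact un hk p2
      · exact b12 (un hi p1)
    obtain ⟨a', i', k', m', ha', e''⟩ := F.coords w
    rw [e'', a0 hw ha' e'', zero_add]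
    exact N.add_mem (N.add_mem (N.smul_mem _ (b31 (b23 h2))) (N.smul_mem _ h2))
      (N.smul_mem _ (b23 h2))

theorem extra_goodPair {X : Setup D} {F : Four D} {j : S} (H : ExtraCase X F j) : GoodPair X := by
  obtain ⟨F₀, hF₀⟩ : ∃ F₀ : Submodule (ZMod 3) E, F₀ = LinearMap.ker (D.ρ j + LinearMap.id) := ⟨_, rfl⟩
  obtain ⟨F₁, hF₁⟩ : ∃ F₁ : Submodule (ZMod 3) E, F₁ = LinearMap.ker (D.ρ j - LinearMap.id) := ⟨_, rfl⟩
  have m0 : ∀ v, v ∈ F₀ ↔ D.ρ j v = -v := fun v => by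
    rw [hF₀, LinearMap.mem_ker, LinearMap.add_apply, LinearMap.id_apply, add_eq_zero_iff_eq_neg]
  have m1 : ∀ v, v ∈ F₁ ↔ D.ρ j v = v := fun v => by
    rw [hF₁, LinearMap.mem_ker, LinearMap.sub_apply, LinearMap.id_apply, sub_eq_zero]
  refine goodPair_of X F₀ F₁ (fun v h0 h1 => eq_zero_of_eq_neg (((m1 v).mp h1).symm.trans ((m0 v).mp h0)))
    (fun v => ?_) (fun r hr v hv => H.fix_pos r hr v ((m1 v).mp hv)) ?_
    (fun r hr v hv => (m0 _).mpr (by rw [H.j_comm hr, (m0 v).mp hv, map_neg]))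
    (fun v hv => (m0 _).mpr (by rw [H.j_comm_b, (m0 v).mp hv, map_neg])) ?_
  · obtain ⟨a, c, ha, hc, e⟩ := H.split v
    exact ⟨c, (m0 c).mpr hc, a, (m1 a).mpr ha, e.trans (add_comm a c)⟩
  · intro v hv
    exact F.b_fix0 ⟨H.fix_pos _ H.xR v ((m1 v).mp hv), H.fix_pos _ H.yR v ((m1 v).mp hv)⟩
  · intro N hN hNR hNb
    rcases H.irreducible N (fun v hv => (m0 v).mp (hN hv)) hNR hNb with h | h
    · exact Or.inl h
    · exact Or.inr fun v hv => h v ((m0 v).mp hv)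

end Cfsg.Agent.CubicBlock
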