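import Mathlib

/-!
# Soluble permutation groups generated by conjugates of a three-cycle
-/

set_option autoImplicit false

namespace Cfsg.Agent.CubicBlock

open Subgroup

/-- A soluble group has no nontrivial `(2,3,5)` triple. -/
theorem eq_one_of_two_three_five {K : Type*} [Group K] [Finite K] [Group.IsSolvable K] {x y : K}
    (hx : x ^ 2 = 1) (hy : y ^ 3 = 1) (hxy : (x * y) ^ 5 = 1) : x = 1 := by
  by_contra hne
  have hxL : x ∈ closure ({x, y} : Set K) := Subgroup.subset_closure (Set.mem_insert _ _)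
  have hyL : y ∈ closure ({x, y} : Set K) :=
    Subgroup.subset_closure (Set.mem_insert_of_mem _ (Set.mem_singleton _))
  have : Nontrivial ↥(closure ({x, y} : Set K)) :=
    ⟨⟨x, hxL⟩, 1, fun h => hne (congrArg Subtype.val h)⟩
  obtain ⟨X, hX⟩ : ∃ X : ↥(closure ({x, y} : Set K)), X = ⟨x, hxL⟩ := ⟨_, rfl⟩
  obtain ⟨Y, hY⟩ : ∃ Y : ↥(closure ({x, y} : Set K)), Y = ⟨y, hyL⟩ := ⟨_, rfl⟩
  have e1 : Abelianization.of X ^ 2 = 1 := by
    rw [← map_pow, show X ^ 2 = 1 from Subtype.ext (by rw [hX]; exact hx), map_one]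
  have e2 : Abelianization.of Y ^ 3 = 1 := by
    rw [← map_pow, show Y ^ 3 = 1 from Subtype.ext (by rw [hY]; exact hy), map_one]
  have e3 : Abelianization.of X ^ 5 * Abelianization.of Y ^ 5 = 1 := by
    rw [← mul_pow, ← map_mul, ← map_pow, show (X * Y) ^ 5 = 1 from
      Subtype.ext (by rw [hX, hY]; exact hxy), map_one]
  have h5x : Abelianization.of X ^ 5 = Abelianization.of X := by
    rw [pow_succ, show 4 = 2 * 2 from rfl, pow_mul, e1, one_pow, one_mul]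
  have h5y : Abelianization.of Y ^ 5 = Abelianization.of Y ^ 2 := by
    rw [show 5 = 3 + 2 from rfl, pow_add, e2, one_mul]
  rw [h5x, h5y] at e3
  have hX1 : Abelianization.of X = 1 := by
    have h := congrArg (fun t => t ^ 3) e3
    simp only [mul_pow, one_pow, ← pow_mul, show 2 * 3 = 3 * 2 from rfl] at h
    rw [pow_mul _ 3 2, e2, one_pow, mul_one, pow_succ, e1, one_mul] at h
    exact h
  have hY1 : Abelianization.of Y = 1 := by
    rw [hX1, one_mul] at e3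
    rwa [pow_succ, e3, one_mul] at e2
  have hker : ∀ t : ↥(closure ({x, y} : Set K)), Abelianization.of t = 1 := by
    rintro ⟨t, ht⟩
    induction ht using closure_induction with
    | mem u hu =>
      rcases hu with rfl | rfl
      · rw [← hX]; exact hX1
      · rw [← hY]; exact hY1
    | one => exact map_one _
    | mul u v hu hv h1 h2 =>
      show Abelianization.of (⟨u, hu⟩ * ⟨v, hv⟩ : ↥(closure ({x, y} : Set K))) = 1
      rw [map_mul, h1, h2, one_mul]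
    | inv u hu h =>
      show Abelianization.of ((⟨u, hu⟩ : ↥(closure ({x, y} : Set K)))⁻¹) = 1
      rw [map_inv, h, inv_one]
  have htop : commutator ↥(closure ({x, y} : Set K)) = ⊤ := by
    rw [eq_top_iff, ← Abelianization.ker_of]
    exact fun t _ => hker t
  exact (Group.IsSolvable.commutator_lt_top_of_nontrivial _).ne htop

section

variable {Ω : Type*}

/-- `σ` is the three-cycle `p → q → r → p`. -/
structure Is3 (σ : Equiv.Perm Ω) (p q r : Ω) : Prop where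
  pq : p ≠ q
  qr : q ≠ r
  rp : r ≠ p
  ap : σ p = q
  aq : σ q = r
  ar : σ r = p
  fix : ∀ w, w ≠ p → w ≠ q → w ≠ r → σ w = w

theorem Is3.rot {σ : Equiv.Perm Ω} {p q r : Ω} (h : Is3 σ p q r) : Is3 σ q r p :=
  ⟨h.qr, h.rp, h.pq, h.aq, h.ar, h.ap, fun w a b c => h.fix w c a b⟩

theorem Is3.inv {σ : Equiv.Perm Ω} {p q r : Ω} (h : Is3 σ p q r) : Is3 σ⁻¹ r q p :=
  ⟨h.qr.symm, h.pq.symm, h.rp.symm, by rw [← h.aq]; simp, by rw [← h.ap]; simp,
    by rw [← h.ar]; simp, fun w a b c => by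
      conv_lhs => rw [← h.fix w c b a]
      simp⟩

theorem Is3.conj {σ : Equiv.Perm Ω} {p q r : Ω} (h : Is3 σ p q r) (g : Equiv.Perm Ω) :
    Is3 (g * σ * g⁻¹) (g p) (g q) (g r) :=
  ⟨g.injective.ne h.pq, g.injective.ne h.qr, g.injective.ne h.rp, by simp [h.ap], by simp [h.aq],
    by simp [h.ar], fun w a b c => by
      have := h.fix (g⁻¹ w) (fun e => a (by simp [← e])) (fun e => b (by simp [← e]))
        (fun e => c (by simp [← e]))
      simp only [Equiv.Perm.mul_apply]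
      rw [this]
      simp⟩

theorem Is3.pow_three {σ : Equiv.Perm Ω} {p q r : Ω} (h : Is3 σ p q r) : σ ^ 3 = 1 := by
  ext w
  rw [pow_succ, pow_two, Equiv.Perm.mul_apply, Equiv.Perm.mul_apply, Equiv.Perm.one_apply]
  by_cases a : w = p
  · rw [a, h.ap, h.aq, h.ar]
  by_cases b : w = q
  · rw [b, h.aq, h.ar, h.ap]
  by_cases c : w = r
  · rw [c, h.ar, h.ap, h.aq]
  rw [h.fix w a b c, h.fix w a b c, h.fix w a b c]

theorem Is3.eq_via {σ : Equiv.Perm Ω} {p q r : Ω} (h : Is3 σ p q r) (e : Fin 5 ↪ Ω)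
    (τ : Equiv.Perm (Fin 5)) (i j k : Fin 5) (hi : e i = p) (hj : e j = q) (hk : e k = r)
    (hτ : τ i = j ∧ τ j = k ∧ τ k = i ∧ ∀ n, n ≠ i → n ≠ j → n ≠ k → τ n = n) :
    σ = Equiv.Perm.viaEmbeddingHom e τ := by
  ext w
  rw [Equiv.Perm.viaEmbeddingHom_apply]
  by_cases hw : w ∈ Set.range e
  · obtain ⟨n, rfl⟩ := hw
    rw [Equiv.Perm.viaEmbedding_apply]
    by_cases a : n = i
    · rw [a, hi, h.ap, hτ.1, hj]
    by_cases b : n = j
    · rw [b, hj, h.aq, hτ.2.1, hk]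
    by_cases c : n = k
    · rw [c, hk, h.ar, hτ.2.2.1, hi]
    rw [hτ.2.2.2 n a b c]
    refine h.fix _ ?_ ?_ ?_
    · rw [← hi]; exact e.injective.ne a
    · rw [← hj]; exact e.injective.ne b
    · rw [← hk]; exact e.injective.ne c
  · rw [Equiv.Perm.viaEmbedding_apply_of_notMem _ _ _ hw]
    refine h.fix w ?_ ?_ ?_
    · rintro rfl; exact hw ⟨i, hi⟩
    · rintro rfl; exact hw ⟨j, hj⟩
    · rintro rfl; exact hw ⟨k, hk⟩

variable {G : Type*} [Group G] [Finite G] [Group.IsSolvable G] (π : G →* Equiv.Perm Ω)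

theorem no_triangle_pair {p q r s t : Ω} (hinj : Function.Injective ![p, q, r, s, t]) {u₁ u₂ : G}
    (h1 : Is3 (π u₁) p q r) (h2 : Is3 (π u₂) p s t) : False := by
  obtain ⟨e, he⟩ : ∃ e : Fin 5 ↪ Ω, ∀ n, e n = ![p, q, r, s, t] n := ⟨⟨_, hinj⟩, fun _ => rfl⟩
  have e1 := h1.eq_via e (Equiv.swap 0 2 * Equiv.swap 0 1) 0 1 2 (he 0) (he 1) (he 2) (by decide)
  have e2 := h2.eq_via e (Equiv.swap 0 4 * Equiv.swap 0 3) 0 3 4 (he 0) (he 3) (he 4) (by decide)
  obtain ⟨a, ha⟩ : ∃ a : π.range, a = ⟨π u₁, ⟨u₁, rfl⟩⟩ := ⟨_, rfl⟩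
  obtain ⟨b, hb⟩ : ∃ b : π.range, b = ⟨π u₂, ⟨u₂, rfl⟩⟩ := ⟨_, rfl⟩
  have : Finite π.range := Set.finite_range π |>.to_subtype
  have : Group.IsSolvable π.range := Group.isSolvable_of_surjective π.rangeRestrict_surjective
  obtain ⟨A, hA⟩ : ∃ A : Equiv.Perm (Fin 5), A = Equiv.swap 0 2 * Equiv.swap 0 1 := ⟨_, rfl⟩
  obtain ⟨B, hB⟩ : ∃ B : Equiv.Perm (Fin 5), B = Equiv.swap 0 4 * Equiv.swap 0 3 := ⟨_, rfl⟩
  rw [← hA] at e1
  rw [← hB] at e2
  have hx : (A * A * B * A * B) ^ 2 = 1 ∧ A ^ 3 = 1 ∧ ((A * A * B * A * B) * A) ^ 5 = 1 ∧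
      A * A * B * A * B ≠ 1 := by
    subst hA hB; decide +kernel
  have h := eq_one_of_two_three_five (x := a * a * b * a * b) (y := a) ?_ ?_ ?_
  · have h' := congrArg Subtype.val h
    rw [ha, hb] at h'
    simp only [Subgroup.coe_mul, e1, e2, OneMemClass.coe_one, ← map_mul] at h'
    rw [← map_one (Equiv.Perm.viaEmbeddingHom e)] at h'
    exact hx.2.2.2 (Equiv.Perm.viaEmbeddingHom_injective e h')
  all_goals
    refine Subtype.ext ?_
    rw [ha]
    try rw [hb]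
    simp only [Subgroup.coe_mul, SubmonoidClass.coe_pow, e1, e2, OneMemClass.coe_one, ← map_mul,
      ← map_pow]
    first
      | rw [hx.1, map_one]
      | rw [hx.2.1, map_one]
      | rw [hx.2.2.1, map_one]

theorem no_common_pair {p q r s t : Ω} (hinj : Function.Injective ![p, q, r, s, t]) {u₁ u₂ u₃ : G}
    (h1 : Is3 (π u₁) p q r) (h2 : Is3 (π u₂) p q s) (h3 : Is3 (π u₃) p q t) : False := by
  obtain ⟨e, he⟩ : ∃ e : Fin 5 ↪ Ω, ∀ n, e n = ![p, q, r, s, t] n := ⟨⟨_, hinj⟩, fun _ => rfl⟩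
  have e1 := h1.eq_via e (Equiv.swap 0 2 * Equiv.swap 0 1) 0 1 2 (he 0) (he 1) (he 2) (by decide)
  have e2 := h2.eq_via e (Equiv.swap 0 3 * Equiv.swap 0 1) 0 1 3 (he 0) (he 1) (he 3) (by decide)
  have e3 := h3.eq_via e (Equiv.swap 0 4 * Equiv.swap 0 1) 0 1 4 (he 0) (he 1) (he 4) (by decide)
  obtain ⟨a, ha⟩ : ∃ a : π.range, a = ⟨π u₁, ⟨u₁, rfl⟩⟩ := ⟨_, rfl⟩
  obtain ⟨b, hb⟩ : ∃ b : π.range, b = ⟨π u₂, ⟨u₂, rfl⟩⟩ := ⟨_, rfl⟩
  obtain ⟨c, hc⟩ : ∃ c : π.range, c = ⟨π u₃, ⟨u₃, rfl⟩⟩ := ⟨_, rfl⟩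
  have : Finite π.range := Set.finite_range π |>.to_subtype
  have : Group.IsSolvable π.range := Group.isSolvable_of_surjective π.rangeRestrict_surjective
  obtain ⟨A, hA⟩ : ∃ A : Equiv.Perm (Fin 5), A = Equiv.swap 0 2 * Equiv.swap 0 1 := ⟨_, rfl⟩
  obtain ⟨B, hB⟩ : ∃ B : Equiv.Perm (Fin 5), B = Equiv.swap 0 3 * Equiv.swap 0 1 := ⟨_, rfl⟩
  obtain ⟨C, hC⟩ : ∃ C : Equiv.Perm (Fin 5), C = Equiv.swap 0 4 * Equiv.swap 0 1 := ⟨_, rfl⟩
  rw [← hA] at e1
  rw [← hB] at e2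
  rw [← hC] at e3
  have hx : (A * B) ^ 2 = 1 ∧ C ^ 3 = 1 ∧ ((A * B) * C) ^ 5 = 1 ∧ A * B ≠ 1 := by
    subst hA hB hC; decide +kernel
  have h := eq_one_of_two_three_five (x := a * b) (y := c) ?_ ?_ ?_
  · have h' := congrArg Subtype.val h
    rw [ha, hb] at h'
    simp only [Subgroup.coe_mul, e1, e2, OneMemClass.coe_one, ← map_mul] at h'
    rw [← map_one (Equiv.Perm.viaEmbeddingHom e)] at h'
    exact hx.2.2.2 (Equiv.Perm.viaEmbeddingHom_injective e h')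
  all_goals
    refine Subtype.ext ?_
    try rw [ha, hb]
    try rw [hc]
    simp only [Subgroup.coe_mul, SubmonoidClass.coe_pow, e1, e2, e3, OneMemClass.coe_one, ← map_mul,
      ← map_pow]
    first
      | rw [hx.1, map_one]
      | rw [hx.2.1, map_one]
      | rw [hx.2.2.1, map_one]

theorem inj_five {p q r s t : Ω} (h1 : p ≠ q) (h2 : p ≠ r) (h3 : p ≠ s) (h4 : p ≠ t) (h5 : q ≠ r)
    (h6 : q ≠ s) (h7 : q ≠ t) (h8 : r ≠ s) (h9 : r ≠ t) (h0 : s ≠ t) :
    Function.Injective ![p, q, r, s, t] := by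
  intro i j h
  fin_cases i <;> fin_cases j <;> simp_all

/-- An orbit of a soluble group generated by a normal subgroup `R` of order prime to three and an
element acting as a three-cycle has at most four points. -/
theorem three_cycle_small [Finite Ω] (R : Subgroup G) (b : G) (h3 : ¬ 3 ∣ Nat.card R)
    (hbR : ∀ r ∈ R, b * r * b⁻¹ ∈ R) (hgen : ∀ g : G, ∃ r ∈ R, ∃ i : ℕ, g = r * b ^ i)
    {a₁ a₂ a₃ : Ω} (hb : Is3 (π b) a₁ a₂ a₃) (htr : ∀ w, ∃ g, π g a₁ = w) : Nat.card Ω ≤ 4 := by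
  have mem : ∀ w, ∃ g p q r, Is3 (π (g * b * g⁻¹)) p q r ∧ (w = p ∨ w = q ∨ w = r) := fun w => by
    obtain ⟨g, hg⟩ := htr w
    refine ⟨g, π g a₁, π g a₂, π g a₃, ?_, Or.inl hg.symm⟩
    rw [map_mul, map_mul, map_inv]
    exact hb.conj _
  -- no conjugate is disjoint from the cycle of `b`
  have meet : ∀ {g : G} {p q r : Ω}, Is3 (π (g * b * g⁻¹)) p q r →
      (p = a₁ ∨ p = a₂ ∨ p = a₃) ∨ (q = a₁ ∨ q = a₂ ∨ q = a₃) ∨ (r = a₁ ∨ r = a₂ ∨ r = a₃) := by
    intro g p q r hg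
    by_contra hno
    push Not at hno
    obtain ⟨⟨p1, p2, p3⟩, ⟨q1, q2, q3⟩, r1, r2, r3⟩ := hno
    obtain ⟨x, hx, i, rfl⟩ := hgen g
    have e : x * b ^ i * b * (x * b ^ i)⁻¹ = x * b * x⁻¹ := by
      rw [mul_inv_rev, ← mul_assoc]
      congr 1
      rw [mul_assoc x, ← pow_succ, pow_succ', ← mul_assoc, mul_assoc (x * b), mul_inv_cancel, mul_one]
    rw [e] at hg
    obtain ⟨u, hu⟩ : ∃ u, u = x * b * x⁻¹ * b⁻¹ := ⟨_, rfl⟩
    have huR : u ∈ R := by
      have := R.mul_mem hx (hbR _ (R.inv_mem hx))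
      rw [hu]; simpa [mul_assoc] using this
    have hpi : π u = π (x * b * x⁻¹) * (π b)⁻¹ := by rw [hu, map_mul, map_inv]
    have hbi := hb.inv
    have hcomm : Commute (π (x * b * x⁻¹)) (π b)⁻¹ := by
      refine Equiv.Perm.Disjoint.commute fun w => ?_
      by_cases a : w = p ∨ w = q ∨ w = r
      · rcases a with rfl | rfl | rfl
        · exact Or.inr (hbi.fix _ p3 p2 p1)
        · exact Or.inr (hbi.fix _ q3 q2 q1)
        · exact Or.inr (hbi.fix _ r3 r2 r1)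
      · push Not at a
        exact Or.inl (hg.fix w a.1 a.2.1 a.2.2)
    have hu3 : π u ^ 3 = 1 := by
      rw [hpi, hcomm.mul_pow, hg.pow_three, hbi.pow_three, mul_one]
    have huR' : π u ^ Nat.card R = 1 := by
      have := pow_card_eq_one' (G := R) (x := ⟨u, huR⟩)
      rw [← map_pow, show u ^ Nat.card R = 1 from congrArg Subtype.val this, map_one]
    have hu1 : π u = 1 := by
      have hg3 : π u ^ Nat.gcd 3 (Nat.card R) = 1 := pow_gcd_eq_one.mpr ⟨hu3, huR'⟩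
      rwa [(Nat.Prime.coprime_iff_not_dvd Nat.prime_three).mpr h3, pow_one] at hg3
    have := Equiv.Perm.congr_fun hu1 p
    rw [hpi, Equiv.Perm.mul_apply, hbi.fix p p3 p2 p1, hg.ap, Equiv.Perm.one_apply] at this
    exact hg.pq this.symm
  -- every other cycle shares a pair with that of `b`
  have pairs : ∀ w, w ≠ a₁ → w ≠ a₂ → w ≠ a₃ → ∃ u,
      Is3 (π u) a₁ a₂ w ∨ Is3 (π u) a₂ a₃ w ∨ Is3 (π u) a₃ a₁ w := by
    intro w w1 w2 w3
    obtain ⟨g, p, q, r, hg, hw⟩ := mem w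
    obtain ⟨p', q', hg'⟩ : ∃ p' q', Is3 (π (g * b * g⁻¹)) p' q' w := by
      rcases hw with rfl | rfl | rfl
      · exact ⟨q, r, hg.rot⟩
      · exact ⟨r, p, hg.rot.rot⟩
      · exact ⟨p, q, hg⟩
    have hm := meet hg'
    have hw' : ¬ (w = a₁ ∨ w = a₂ ∨ w = a₃) := by push Not; exact ⟨w1, w2, w3⟩
    have hginv : Is3 (π (g * b * g⁻¹)⁻¹) q' p' w := by
      rw [map_inv]
      exact hg'.inv.rot
    by_cases hp : p' = a₁ ∨ p' = a₂ ∨ p' = a₃
    · by_cases hq : q' = a₁ ∨ q' = a₂ ∨ q' = a₃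
      · rcases hp with rfl | rfl | rfl <;> rcases hq with rfl | rfl | rfl
        · exact absurd rfl hg'.pq
        · exact ⟨_, Or.inl hg'⟩
        · exact ⟨_, Or.inr (Or.inr hginv)⟩
        · exact ⟨_, Or.inl hginv⟩
        · exact absurd rfl hg'.pq
        · exact ⟨_, Or.inr (Or.inl hg')⟩
        · exact ⟨_, Or.inr (Or.inr hg')⟩
        · exact ⟨_, Or.inr (Or.inl hginv)⟩
        · exact absurd rfl hg'.pq
      · push Not at hq
        exfalso
        rcases hp with rfl | rfl | rfl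
        · exact no_triangle_pair π (inj_five hb.pq hb.rp.symm hg'.pq hg'.rp.symm hb.qr hq.2.1.symm
            w2.symm hq.2.2.symm w3.symm hg'.qr) hb hg'
        · exact no_triangle_pair π (inj_five hb.qr hb.pq.symm hg'.pq hg'.rp.symm hb.rp hq.2.2.symm
            w3.symm hq.1.symm w1.symm hg'.qr) hb.rot hg'
        · exact no_triangle_pair π (inj_five hb.rp hb.qr.symm hg'.pq hg'.rp.symm hb.pq hq.1.symm
            w1.symm hq.2.1.symm w2.symm hg'.qr) hb.rot.rot hg'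
    · by_cases hq : q' = a₁ ∨ q' = a₂ ∨ q' = a₃
      · push Not at hp
        exfalso
        rcases hq with rfl | rfl | rfl
        · exact no_triangle_pair π (inj_five hb.pq hb.rp.symm hg'.qr hg'.pq.symm hb.qr w2.symm
            hp.2.1.symm w3.symm hp.2.2.symm hg'.rp) hb hg'.rot
        · exact no_triangle_pair π (inj_five hb.qr hb.pq.symm hg'.qr hg'.pq.symm hb.rp w3.symm
            hp.2.2.symm w1.symm hp.1.symm hg'.rp) hb.rot hg'.rot
        · exact no_triangle_pair π (inj_five hb.rp hb.qr.symm hg'.qr hg'.pq.symm hb.pq w1.symm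
            hp.1.symm w2.symm hp.2.1.symm hg'.rp) hb.rot.rot hg'.rot
      · exact (hm.resolve_left hp).resolve_left hq |>.elim (fun h => absurd (Or.inl h) hw')
          (fun h => absurd (Or.inr h) hw')
  by_contra hcard
  push Not at hcard
  have exists_out : ∀ T : Set Ω, T.ncard ≤ 4 → ∃ w, w ∉ T := fun T hT => by
    by_contra h
    push Not at h
    rw [Set.eq_univ_of_forall h, Set.ncard_univ] at hT
    omega
  have card3 : ({a₁, a₂, a₃} : Set Ω).ncard ≤ 3 :=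
    (Set.ncard_insert_le _ _).trans (Nat.succ_le_succ
      ((Set.ncard_insert_le _ _).trans (by rw [Set.ncard_singleton])))
  obtain ⟨w, hw⟩ := exists_out {a₁, a₂, a₃} (by omega)
  obtain ⟨v, hv⟩ := exists_out (insert w {a₁, a₂, a₃}) ((Set.ncard_insert_le _ _).trans (by omega))
  simp only [Set.mem_insert_iff, Set.mem_singleton_iff, not_or] at hw hv
  obtain ⟨(w1 : w ≠ a₁), (w2 : w ≠ a₂), (w3 : w ≠ a₃)⟩ := hw
  obtain ⟨(vw : v ≠ w), (v1 : v ≠ a₁), (v2 : v ≠ a₂), (v3 : v ≠ a₃)⟩ := hv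
  obtain ⟨u, hu⟩ := pairs w w1 w2 w3
  obtain ⟨u', hu'⟩ := pairs v v1 v2 v3
  rcases hu with hu | hu | hu <;> rcases hu' with hu' | hu' | hu'
  · exact no_common_pair π (inj_five hb.pq hb.rp.symm w1.symm v1.symm hb.qr w2.symm v2.symm w3.symm
      v3.symm vw.symm) hb hu hu'
  · exact no_triangle_pair π (inj_five hb.pq.symm w2.symm hb.qr v2.symm w1.symm hb.rp.symm v1.symm w3
      vw.symm v3.symm) (u₁ := u⁻¹) (by rw [map_inv]; exact hu.inv.rot) hu'
  · exact no_triangle_pair π (inj_five hb.pq w1.symm hb.rp.symm v1.symm w2.symm hb.qr v2.symm w3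
      vw.symm v3.symm) hu (u₂ := u'⁻¹) (by rw [map_inv]; exact hu'.inv.rot)
  · exact no_triangle_pair π (inj_five hb.qr w2.symm hb.pq.symm v2.symm w3.symm hb.rp v3.symm w1
      vw.symm v1.symm) hu (u₂ := u'⁻¹) (by rw [map_inv]; exact hu'.inv.rot)
  · exact no_common_pair π (inj_five hb.qr hb.pq.symm w2.symm v2.symm hb.rp w3.symm v3.symm w1.symm
      v1.symm vw.symm) hb.rot hu hu'
  · exact no_triangle_pair π (inj_five hb.qr.symm w3.symm hb.rp v3.symm w2.symm hb.pq.symm v2.symm w1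
      vw.symm v1.symm) (u₁ := u⁻¹) (by rw [map_inv]; exact hu.inv.rot) hu'
  · exact no_triangle_pair π (inj_five hb.rp.symm w1.symm hb.pq v1.symm w3.symm hb.qr.symm v3.symm w2
      vw.symm v2.symm) (u₁ := u⁻¹) (by rw [map_inv]; exact hu.inv.rot) hu'
  · exact no_triangle_pair π (inj_five hb.rp w3.symm hb.qr.symm v3.symm w1.symm hb.pq v1.symm w2
      vw.symm v2.symm) hu (u₂ := u'⁻¹) (by rw [map_inv]; exact hu'.inv.rot)
  · exact no_common_pair π (inj_five hb.rp hb.qr.symm w3.symm v3.symm hb.pq w1.symm v1.symm w2.symm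
      v2.symm vw.symm) hb.rot.rot hu hu'

end

end Cfsg.Agent.CubicBlock
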