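import Cfsg.Agent.CubicBlock.Extra
import Cfsg.Agent.CubicBlock.Perm
import Cfsg.Agent.Coprime.Tools

/-!
# An abelian normal subgroup moved by the cubic element

The weight lines of an elementary abelian normal subgroup containing the four-group form an orbit of
three or four points; `R` is then the four-group or falls in the extraspecial case.
-/

set_option autoImplicit false

namespace Cfsg.Agent.CubicBlock

open Subgroup

variable {S E : Type*} [Group S] [AddCommGroup E] [Module (ZMod 3) E]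

/-- The situation: an elementary abelian subgroup normal under `R` and `b` containing the
four-group. -/
structure LineCase {D : Data S E} (X : Setup D) (F : Four D) (A : Subgroup S) : Prop where
  le : A ≤ X.R
  comm : ∀ a ∈ A, ∀ c ∈ A, a * c = c * a
  normR : ∀ r ∈ X.R, ∀ a ∈ A, r * a * r⁻¹ ∈ A
  normb : ∀ a ∈ A, D.b * a * D.b⁻¹ ∈ A
  xA : F.x ∈ A
  yA : F.y ∈ A
  three : ¬ 3 ∣ Nat.card X.R

namespace LineCase

variable {D : Data S E} {X : Setup D} {F : Four D} {A : Subgroup S} (H : LineCase X F A)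

/-- The group generated by `R` and `b`. -/
def K (X : Setup D) : Subgroup S := X.R ⊔ zpowers D.b

theorem R_le (X : Setup D) : X.R ≤ K X := le_sup_left
theorem b_mem (X : Setup D) : D.b ∈ K X := mem_sup_right (mem_zpowers _)

theorem b_normalizes (X : Setup D) : D.b ∈ normalizer (X.R : Set S) := by
  rw [mem_normalizer_iff]
  refine fun r => ⟨X.bR r, fun hr => ?_⟩
  have := X.bR _ (X.bR _ hr)
  have e : D.b * (D.b * (D.b * r * D.b⁻¹) * D.b⁻¹) * D.b⁻¹ = D.b ^ 3 * r * (D.b ^ 3)⁻¹ := by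
    rw [pow_succ, pow_two]; group
  rwa [e, D.b3, one_mul, inv_one, mul_one] at this

theorem exists_decomp (X : Setup D) {g : S} (hg : g ∈ K X) :
    ∃ r ∈ X.R, ∃ i : ℕ, g = r * D.b ^ i := by
  obtain ⟨r, hr, c, hc, rfl⟩ := (Coprime.mem_sup_of_le_normalizer
    (zpowers_le.mpr (b_normalizes X))).mp hg
  obtain ⟨k, rfl⟩ := mem_zpowers_iff.mp hc
  refine ⟨r, hr, (k % 3).toNat, ?_⟩
  have h3 : (k % 3).toNat = ((k % 3 : ℤ)) := Int.toNat_of_nonneg (Int.emod_nonneg _ (by norm_num))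
  conv_lhs => rw [← Int.emod_add_ediv_mul k 3, zpow_add, mul_comm (k / 3), zpow_mul]
  have hb3 : D.b ^ (3 : ℤ) = 1 := by rw [show (3 : ℤ) = ((3 : ℕ) : ℤ) from rfl, zpow_natCast, D.b3]
  rw [hb3, one_zpow, mul_one, ← zpow_natCast, h3]

include H in
theorem normK {g : S} (hg : g ∈ K X) : ∀ a ∈ A, g * a * g⁻¹ ∈ A := by
  obtain ⟨r, hr, i, rfl⟩ := exists_decomp X hg
  intro a ha
  have hb : ∀ i : ℕ, D.b ^ i * a * (D.b ^ i)⁻¹ ∈ A := by
    intro i
    induction i with
    | zero => simpa using ha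
    | succ i ih =>
      have := H.normb _ ih
      rwa [show D.b * (D.b ^ i * a * (D.b ^ i)⁻¹) * D.b⁻¹ = D.b ^ (i + 1) * a * (D.b ^ (i + 1))⁻¹ by
        rw [pow_succ', mul_inv_rev]; group] at this
  have := H.normR r hr _ (hb i)
  rwa [show r * (D.b ^ i * a * (D.b ^ i)⁻¹) * r⁻¹ = r * D.b ^ i * a * (r * D.b ^ i)⁻¹ by group] at this

variable [Finite E]

include H in
theorem a_v1 {a : S} (ha : a ∈ A) : ∃ k : ZMod 3, (k = 1 ∨ k = -1) ∧ D.ρ a F.v1 = k • F.v1 := by
  have hin : F.In1 (D.ρ a F.v1) := by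
    refine ⟨?_, ?_⟩
    · rw [← D.rho_mul, H.comm _ H.xA _ ha, D.rho_mul, F.v1_in.1]
    · rw [← D.rho_mul, H.comm _ H.yA _ ha, D.rho_mul, F.v1_in.2, map_neg]
  obtain ⟨k, hk⟩ := F.in1_eq hin
  refine ⟨k, ?_, hk⟩
  rcases (by decide : ∀ k : ZMod 3, k = 0 ∨ k = 1 ∨ k = -1) k with rfl | h
  · rw [zero_smul] at hk
    exact absurd (D.rho_injective a (hk.trans (map_zero _).symm)) F.v1_ne
  · exact h

/-- The orbit of the first line. -/
def Ω (X : Setup D) (F : Four D) : Type _ :=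
  {W : Submodule (ZMod 3) E // ∃ g : K X, W = Submodule.span (ZMod 3) {D.ρ (g : S) F.v1}}

instance : Finite (Ω X F) := inferInstanceAs (Finite {W : Submodule (ZMod 3) E // _})

theorem map_line (g : S) (v : E) : (Submodule.span (ZMod 3) {v}).map (D.ρ g) =
    Submodule.span (ZMod 3) {D.ρ g v} := by
  rw [Submodule.map_span, Set.image_singleton]

/-- The action on the orbit. -/
noncomputable def φ (X : Setup D) (F : Four D) : K X →* Equiv.Perm (Ω X F) :=
  MonoidHom.toHomPerm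
    { toFun := fun g W => ⟨W.1.map (D.ρ (g : S)), by
        obtain ⟨h, hh⟩ := W.2
        exact ⟨g * h, by rw [hh, map_line, ← D.rho_mul]; rfl⟩⟩
      map_one' := funext fun W => Subtype.ext (by
        show W.1.map (D.ρ ((1 : K X) : S)) = W.1
        rw [OneMemClass.coe_one, map_one]
        exact Submodule.map_id _)
      map_mul' := fun g h => funext fun W => Subtype.ext (by
        show W.1.map (D.ρ ((g * h : K X) : S)) = (W.1.map (D.ρ (h : S))).map (D.ρ (g : S))
        rw [Subgroup.coe_mul, map_mul, ← Submodule.map_comp]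
        rfl) }

theorem φ_val (g : K X) (W : Ω X F) : ((φ X F g) W).1 = W.1.map (D.ρ (g : S)) := rfl

/-- A generator of a line. -/
noncomputable def vec (W : Ω X F) : E := D.ρ ((Classical.choose W.2 : K X) : S) F.v1

theorem span_vec (W : Ω X F) : W.1 = Submodule.span (ZMod 3) {vec W} := Classical.choose_spec W.2

theorem vec_ne (W : Ω X F) : vec W ≠ 0 := fun h =>
  F.v1_ne (D.rho_injective _ (h.trans (map_zero _).symm))

theorem exists_coeff (g : K X) (W : Ω X F) :
    ∃ k : ZMod 3, k ≠ 0 ∧ D.ρ (g : S) (vec W) = k • vec (φ X F g W) := by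
  have h : D.ρ (g : S) (vec W) ∈ (φ X F g W).1 := by
    rw [φ_val, span_vec W]
    exact Submodule.mem_map_of_mem (Submodule.mem_span_singleton_self _)
  rw [span_vec (φ X F g W), Submodule.mem_span_singleton] at h
  obtain ⟨k, hk⟩ := h
  refine ⟨k, fun e => vec_ne W (D.rho_injective (g : S) ?_), hk.symm⟩
  rw [← hk, e, zero_smul, map_zero]

/-- The monomial coefficient. -/
noncomputable def coeff (g : K X) (W : Ω X F) : ZMod 3 := Classical.choose (exists_coeff g W)

theorem coeff_ne (g : K X) (W : Ω X F) : coeff g W ≠ 0 := (Classical.choose_spec (exists_coeff g W)).1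

theorem coeff_spec (g : K X) (W : Ω X F) : D.ρ (g : S) (vec W) = coeff g W • vec (φ X F g W) :=
  (Classical.choose_spec (exists_coeff g W)).2

theorem eq_coeff {g : K X} {W : Ω X F} {k : ZMod 3}
    (h : D.ρ (g : S) (vec W) = k • vec (φ X F g W)) : coeff g W = k := by
  rw [coeff_spec, ← sub_eq_zero, ← sub_smul, smul_eq_zero] at h
  exact sub_eq_zero.mp (h.resolve_right (vec_ne _))

theorem coeff_mul (g h : K X) (W : Ω X F) :
    coeff (g * h) W = coeff h W * coeff g (φ X F h W) := by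
  refine eq_coeff ?_
  rw [Subgroup.coe_mul, D.rho_mul, coeff_spec h, map_smul, coeff_spec g, smul_smul]
  rw [show φ X F (g * h) W = φ X F g (φ X F h W) by rw [map_mul]; rfl]

theorem coeff_one (W : Ω X F) : coeff (1 : K X) W = 1 := by
  refine eq_coeff ?_
  rw [OneMemClass.coe_one, D.rho_one, map_one, Equiv.Perm.one_apply, one_smul]

/-- The product of the monomial coefficients. -/
noncomputable def coeffProd (X : Setup D) (F : Four D) [Fintype (Ω X F)] : K X →* ZMod 3 where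
  toFun g := ∏ W, coeff g W
  map_one' := Finset.prod_eq_one fun W _ => coeff_one W
  map_mul' g h := by
    simp only [coeff_mul, Finset.prod_mul_distrib]
    rw [Equiv.prod_comp (φ X F h) (fun W => coeff g W), mul_comm]

theorem line_cases (H : LineCase X F A) (W : Ω X F) :
    W.1 = Submodule.span (ZMod 3) {F.v1} ∨ W.1 = Submodule.span (ZMod 3) {F.v2} ∨
      W.1 = Submodule.span (ZMod 3) {F.v3} ∨ F.In0 (vec W) := by
  have sgn : ∀ a ∈ A, D.ρ a (vec W) = vec W ∨ D.ρ a (vec W) = -vec W := by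
    intro a ha
    obtain ⟨g, hg⟩ : ∃ g : K X, g = Classical.choose W.2 := ⟨_, rfl⟩
    have hv : vec W = D.ρ (g : S) F.v1 := by rw [hg]; rfl
    have ha' : (g : S)⁻¹ * a * (g : S)⁻¹⁻¹ ∈ A := H.normK ((K X).inv_mem g.2) a ha
    obtain ⟨k, hk, e⟩ := H.a_v1 ha'
    have e' : D.ρ a (vec W) = k • vec W := by
      have e2 := congrArg (D.ρ (g : S)) e
      rw [← D.rho_mul, map_smul, ← hv] at e2
      rw [← e2, hv, ← D.rho_mul]
      congr 2
      group
    rcases hk with rfl | rfl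
    · left; rw [e', one_smul]
    · right; rw [e', neg_smul, one_smul]
  have one : ∀ {v u : E}, (∃ k : ZMod 3, v = k • u) → v ≠ 0 →
      Submodule.span (ZMod 3) {v} = Submodule.span (ZMod 3) {u} := by
    rintro v u ⟨k, rfl⟩ hv
    exact Submodule.span_singleton_smul_eq (isUnit_iff_ne_zero.mpr fun e => hv (by rw [e, zero_smul])) u
  rw [span_vec W]
  rcases sgn _ H.xA with hx | hx <;> rcases sgn _ H.yA with hy | hy
  · exact Or.inr (Or.inr (Or.inr ⟨hx, hy⟩))
  · exact Or.inl (one (F.in1_eq ⟨hx, hy⟩) (vec_ne W))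
  · exact Or.inr (Or.inl (one (F.in2_eq ⟨hx, hy⟩) (vec_ne W)))
  · exact Or.inr (Or.inr (Or.inl (one (F.in3_eq ⟨hx, hy⟩) (vec_ne W))))

/-- The first line as a point. -/
noncomputable def l1 (X : Setup D) (F : Four D) : Ω X F :=
  ⟨Submodule.span (ZMod 3) {F.v1}, 1, by rw [OneMemClass.coe_one, D.rho_one]⟩
/-- The second line as a point. -/
noncomputable def l2 (X : Setup D) (F : Four D) : Ω X F :=
  ⟨Submodule.span (ZMod 3) {F.v2}, ⟨D.b, b_mem X⟩, rfl⟩
/-- The third line as a point. -/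
noncomputable def l3 (X : Setup D) (F : Four D) : Ω X F :=
  ⟨Submodule.span (ZMod 3) {F.v3}, ⟨D.b * D.b, (K X).mul_mem (b_mem X) (b_mem X)⟩, by
    show _ = Submodule.span (ZMod 3) {D.ρ (D.b * D.b) F.v1}
    rw [D.rho_mul]; rfl⟩

include H in
theorem vec_cases (W : Ω X F) : (W = l1 X F ∨ W = l2 X F ∨ W = l3 X F) ∨ F.In0 (vec W) := by
  rcases H.line_cases W with h | h | h | h
  · exact Or.inl (Or.inl (Subtype.ext h))
  · exact Or.inl (Or.inr (Or.inl (Subtype.ext h)))
  · exact Or.inl (Or.inr (Or.inr (Subtype.ext h)))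
  · exact Or.inr h

theorem lines_ne : l1 X F ≠ l2 X F ∧ l2 X F ≠ l3 X F ∧ l3 X F ≠ l1 X F := by
  have z0 : F.In0 (0 : E) := ⟨map_zero _, map_zero _⟩
  have key : ∀ {u v : E}, Submodule.span (ZMod 3) {u} = Submodule.span (ZMod 3) {v} →
      ∃ k : ZMod 3, u = k • v := fun {u v} h => by
    have := Submodule.mem_span_singleton_self (R := ZMod 3) u
    rw [h, Submodule.mem_span_singleton] at this
    obtain ⟨k, hk⟩ := this
    exact ⟨k, hk.symm⟩
  refine ⟨fun h => ?_, fun h => ?_, fun h => ?_⟩ <;> obtain ⟨k, hk⟩ := key (congrArg Subtype.val h)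
  · have := F.coords_inj (a := 0) (a' := 0) (i := 1) (i' := 0) (j := 0) (j' := k) (k := 0) (k' := 0)
      z0 z0 (by simpa using hk)
    exact one_ne_zero this.2.1
  · have := F.coords_inj (a := 0) (a' := 0) (i := 0) (i' := 0) (j := 1) (j' := 0) (k := 0) (k' := k)
      z0 z0 (by simpa using hk)
    exact one_ne_zero this.2.2.1
  · have := F.coords_inj (a := 0) (a' := 0) (i := 0) (i' := k) (j := 0) (j' := 0) (k := 1) (k' := 0)
      z0 z0 (by simpa using hk)
    exact one_ne_zero this.2.2.2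

theorem φb1 : φ X F ⟨D.b, b_mem X⟩ (l1 X F) = l2 X F :=
  Subtype.ext (map_line _ _)

theorem φb2 : φ X F ⟨D.b, b_mem X⟩ (l2 X F) = l3 X F :=
  Subtype.ext (map_line _ _)

theorem φb3 : φ X F ⟨D.b, b_mem X⟩ (l3 X F) = l1 X F := by
  refine Subtype.ext ((map_line _ _).trans ?_)
  show Submodule.span (ZMod 3) {D.ρ D.b F.v3} = _
  rw [F.b_v3]; rfl

include H in
theorem φb_fix {W : Ω X F} (h : F.In0 (vec W)) : φ X F ⟨D.b, b_mem X⟩ W = W := by
  refine Subtype.ext ?_
  rw [φ_val, span_vec W, map_line]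
  exact congrArg (fun t => Submodule.span (ZMod 3) {t}) (F.b_fix0 h)

include H in
theorem is3 : Is3 (φ X F ⟨D.b, b_mem X⟩) (l1 X F) (l2 X F) (l3 X F) := by
  refine ⟨lines_ne.1, lines_ne.2.1, lines_ne.2.2, φb1, φb2, φb3, fun W a b c => ?_⟩
  rcases H.vec_cases W with (h | h | h) | h
  · exact absurd h a
  · exact absurd h b
  · exact absurd h c
  · exact H.φb_fix h

theorem transitive (W : Ω X F) : ∃ g, φ X F g (l1 X F) = W := by
  obtain ⟨g, hg⟩ := W.2
  exact ⟨g, Subtype.ext ((map_line _ _).trans hg.symm)⟩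

/-- An element of `R` as an element of `⟨R, b⟩`. -/
def toK (r : X.R) : K X := ⟨r, R_le X r.2⟩

/-- The span of the lines. -/
def M (X : Setup D) (F : Four D) : Submodule (ZMod 3) E :=
  Submodule.span (ZMod 3) (Set.range (vec : Ω X F → E))

theorem M_invariant (g : K X) {v : E} (hv : v ∈ M X F) : D.ρ (g : S) v ∈ M X F := by
  induction hv using Submodule.span_induction with
  | mem u hu =>
    obtain ⟨W, rfl⟩ := hu
    rw [coeff_spec]
    exact Submodule.smul_mem _ _ (Submodule.subset_span ⟨_, rfl⟩)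
  | zero => rw [map_zero]; exact zero_mem _
  | add u w _ _ h1 h2 => rw [map_add]; exact add_mem h1 h2
  | smul c u _ h => rw [map_smul]; exact Submodule.smul_mem _ c h

theorem v_mem : F.v1 ∈ M X F ∧ F.v2 ∈ M X F ∧ F.v3 ∈ M X F := by
  have key : ∀ (W : Ω X F) (v : E), W.1 = Submodule.span (ZMod 3) {v} → v ∈ M X F := by
    intro W v h
    have hv := Submodule.mem_span_singleton_self (R := ZMod 3) v
    rw [← h, span_vec W] at hv
    exact Submodule.span_mono (Set.singleton_subset_iff.mpr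
      (Set.mem_range_self (f := (vec : Ω X F → E)) W)) hv
  exact ⟨key (l1 X F) _ rfl, key (l2 X F) _ rfl, key (l3 X F) _ rfl⟩

/-- The elements of `⟨R, b⟩` that are trivial modulo the lines. -/
def modTriv (X : Setup D) (F : Four D) : Subgroup S where
  carrier := {g | g ∈ K X ∧ ∀ v, D.ρ g v - v ∈ M X F}
  mul_mem' {g h} hg hh := ⟨(K X).mul_mem hg.1 hh.1, fun v => by
    rw [D.rho_mul]
    have := add_mem (hg.2 (D.ρ h v)) (hh.2 v)
    rwa [sub_add_sub_cancel] at this⟩
  one_mem' := ⟨(K X).one_mem, fun v => by rw [D.rho_one, sub_self]; exact zero_mem _⟩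
  inv_mem' {g} hg := ⟨(K X).inv_mem hg.1, fun v => by
    have := neg_mem (hg.2 (D.ρ g⁻¹ v))
    rwa [D.rho_cancel_inv, neg_sub] at this⟩

theorem R_modTriv : X.R ≤ modTriv X F := by
  have hb : D.b ∈ modTriv X F := by
    refine ⟨b_mem X, fun v => ?_⟩
    obtain ⟨a, i, j, k, ha, rfl⟩ := F.coords v
    obtain ⟨h1, h2, h3⟩ := v_mem (X := X) (F := F)
    simp only [map_add, map_smul, F.b_fix0 ha]
    rw [show D.ρ D.b F.v1 = F.v2 from rfl, show D.ρ D.b F.v2 = F.v3 from rfl, F.b_v3]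
    have e : a + i • F.v2 + j • F.v3 + k • F.v1 - (a + i • F.v1 + j • F.v2 + k • F.v3) =
        i • F.v2 + j • F.v3 + k • F.v1 - (i • F.v1 + j • F.v2 + k • F.v3) := by abel
    rw [e]
    exact sub_mem (add_mem (add_mem (Submodule.smul_mem _ _ h2) (Submodule.smul_mem _ _ h3))
      (Submodule.smul_mem _ _ h1)) (add_mem (add_mem (Submodule.smul_mem _ _ h1)
      (Submodule.smul_mem _ _ h2)) (Submodule.smul_mem _ _ h3))
  refine X.gen _ fun r hr => (modTriv X F).mul_mem ?_ ((modTriv X F).inv_mem hb)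
  refine ⟨(K X).mul_mem ((K X).mul_mem (R_le X hr) (b_mem X)) ((K X).inv_mem (R_le X hr)), fun v => ?_⟩
  have := M_invariant ⟨r, R_le X hr⟩ (hb.2 (D.ρ r⁻¹ v))
  rw [D.rho_mul, D.rho_mul]
  simpa [map_sub, D.rho_cancel_inv] using this

variable [Finite S]

include H in
theorem faithful {r : S} (hr : r ∈ X.R) (h : ∀ W : Ω X F, D.ρ r (vec W) = vec W) : r = 1 := by
  refine D.eq_one_of_fix fun v => ?_
  obtain ⟨m, hm⟩ : ∃ m, m = D.ρ r v - v := ⟨_, rfl⟩
  have hmM : m ∈ M X F := hm ▸ (R_modTriv hr).2 v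
  have hrm : D.ρ r m = m := by
    clear hm
    induction hmM using Submodule.span_induction with
    | mem u hu => obtain ⟨W, rfl⟩ := hu; exact h W
    | zero => exact map_zero _
    | add u w _ _ h1 h2 => rw [map_add, h1, h2]
    | smul c u _ h1 => rw [map_smul, h1]
  have h1 : D.ρ r v = v + m := by rw [hm]; abel
  have h3 : D.ρ (r ^ 3) v = v := by
    rw [pow_succ, pow_two, D.rho_mul, D.rho_mul, h1, map_add, h1, hrm, map_add, map_add, h1, hrm]
    calc v + m + m + m = v + (m + m + m) := by abel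
      _ = v := by rw [three_smul_eq_zero, add_zero]
  refine fix_of_gcd h3 (m := Nat.card X.R) ?_ ((Nat.Prime.coprime_iff_not_dvd Nat.prime_three).mpr H.three)
  have := pow_card_eq_one' (G := X.R) (x := ⟨r, hr⟩)
  rw [show r ^ Nat.card X.R = 1 from congrArg Subtype.val this, D.rho_one]

include H in
theorem sign_one [Fintype (Ω X F)] [DecidableEq (Ω X F)] (r : X.R) :
    Equiv.Perm.sign (φ X F (toK r)) = 1 := by
  refine X.hom_trivial ((Equiv.Perm.sign.comp (φ X F)).comp (Subgroup.inclusion (R_le X))) (fun r => ?_) r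
  show (Equiv.Perm.sign.comp (φ X F)) (⟨D.b, b_mem X⟩ * toK r * (⟨D.b, b_mem X⟩ : K X)⁻¹) =
    (Equiv.Perm.sign.comp (φ X F)) (toK r)
  rw [map_mul, map_mul, map_inv, mul_inv_cancel_comm]

theorem prod_one [Fintype (Ω X F)] (r : X.R) : ∏ W, coeff (F := F) (toK r) W = 1 := by
  have := X.hom_trivial ((coeffProd X F).toHomUnits.comp (Subgroup.inclusion (R_le X))) (fun r => by
    show (coeffProd X F).toHomUnits (⟨D.b, b_mem X⟩ * toK r * (⟨D.b, b_mem X⟩ : K X)⁻¹) =
      (coeffProd X F).toHomUnits (toK r)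
    rw [map_mul, map_mul, map_inv, mul_inv_cancel_comm]) r
  exact congrArg Units.val this

include H in
theorem pow_coprime {r : X.R} {σ : Equiv.Perm (Ω X F)} (hσ : σ = φ X F (toK r)) {n m : ℕ}
    (h : σ ^ n = 1) (hnm : n = m * 3) : σ ^ m = 1 := by
  have hr : σ ^ Nat.card X.R = 1 := by
    have e : (toK r) ^ Nat.card X.R = 1 := Subtype.ext (by
      show (r : S) ^ Nat.card X.R = 1
      exact congrArg Subtype.val (pow_card_eq_one' (G := X.R) (x := r)))
    rw [hσ, ← map_pow, e, map_one]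
  have hd : orderOf σ ∣ m := by
    refine Nat.Coprime.dvd_of_dvd_mul_right ?_ (hnm ▸ orderOf_dvd_of_pow_eq_one h)
    exact (((Nat.Prime.coprime_iff_not_dvd Nat.prime_three).mpr H.three).symm).coprime_dvd_left
      (orderOf_dvd_of_pow_eq_one hr)
  exact orderOf_dvd_iff_pow_eq_one.mp hd

set_option maxHeartbeats 1000000 in
include H in
/-- With three lines, `R` is the four-group. -/
theorem three_case (hcard : Nat.card (Ω X F) = 3) :
    ∀ r ∈ X.R, r = 1 ∨ r = F.x ∨ r = F.y ∨ r = F.z := by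
  classical
  have : Fintype (Ω X F) := Fintype.ofFinite _
  have hc : Fintype.card (Ω X F) = 3 := by rwa [← Nat.card_eq_fintype_card]
  have hall : ∀ W : Ω X F, W = l1 X F ∨ W = l2 X F ∨ W = l3 X F := by
    have hu : ({l1 X F, l2 X F, l3 X F} : Finset (Ω X F)) = Finset.univ :=
      Finset.eq_univ_of_card _ (by
        rw [hc, Finset.card_insert_of_notMem, Finset.card_insert_of_notMem, Finset.card_singleton]
        · simp [lines_ne.2.1]
        · simp [lines_ne.1, lines_ne.2.2.symm])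
    intro W
    have := Finset.mem_univ W
    rw [← hu] at this
    simpa using this
  have fixl : ∀ (r : X.R) (W : Ω X F), φ X F (toK r) W = W := by
    intro r
    obtain ⟨σ, hσ⟩ : ∃ σ, σ = φ X F (toK r) := ⟨_, rfl⟩
    let e := Fintype.equivFinOfCardEq hc
    have h6 : σ ^ 6 = 1 := by
      have := pow_card_eq_one' (G := Equiv.Perm (Ω X F)) (x := σ)
      rwa [Nat.card_eq_fintype_card, Fintype.card_perm, hc] at this
    have h2 : σ ^ 2 = 1 := H.pow_coprime hσ h6 rfl
    have key : e.permCongr σ = 1 := by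
      refine (by decide : ∀ τ : Equiv.Perm (Fin 3), Equiv.Perm.sign τ = 1 → τ * τ = 1 → τ = 1) _ ?_ ?_
      · rw [Equiv.Perm.sign_permCongr, hσ]; exact H.sign_one r
      · rw [← pow_two]
        show e.permCongrHom σ ^ 2 = 1
        rw [← map_pow, h2, map_one]
    intro W
    rw [← hσ]
    have := congrArg (fun τ : Equiv.Perm (Fin 3) => τ (e W)) key
    simpa using this
  have line_mem : ∀ r ∈ X.R, ∀ (v : E) (W : Ω X F), W.1 = Submodule.span (ZMod 3) {v} →
      ∃ k : ZMod 3, D.ρ r v = k • v := by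
    intro r hr v W hW
    have h := congrArg Subtype.val (fixl ⟨r, hr⟩ W)
    rw [φ_val, hW, map_line] at h
    have := Submodule.mem_span_singleton_self (R := ZMod 3) (D.ρ r v)
    rw [show D.ρ ((toK (X := X) ⟨r, hr⟩ : K X) : S) v = D.ρ r v from rfl] at h
    rw [h, Submodule.mem_span_singleton] at this
    obtain ⟨k, hk⟩ := this
    exact ⟨k, hk.symm⟩
  have sgn : ∀ r ∈ X.R, (D.ρ r F.v1 = F.v1 ∨ D.ρ r F.v1 = -F.v1) ∧
      (D.ρ r F.v2 = F.v2 ∨ D.ρ r F.v2 = -F.v2) ∧ (D.ρ r F.v3 = F.v3 ∨ D.ρ r F.v3 = -F.v3) := by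
    intro r hr
    have one : ∀ {v : E} (W : Ω X F), W.1 = Submodule.span (ZMod 3) {v} → v ≠ 0 →
        D.ρ r v = v ∨ D.ρ r v = -v := by
      intro v W hW hv
      obtain ⟨k, hk⟩ := line_mem r hr v W hW
      rcases (by decide : ∀ k : ZMod 3, k = 0 ∨ k = 1 ∨ k = -1) k with rfl | rfl | rfl
      · rw [zero_smul] at hk
        exact absurd (D.rho_injective r (hk.trans (map_zero _).symm)) hv
      · exact Or.inl (by rw [hk, one_smul])
      · exact Or.inr (by rw [hk, neg_smul, one_smul])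
    have v2ne : F.v2 ≠ 0 := fun e => F.v1_ne (D.rho_injective D.b (e.trans (map_zero _).symm))
    have v3ne : F.v3 ≠ 0 := fun e => v2ne (D.rho_injective D.b (e.trans (map_zero _).symm))
    exact ⟨one (l1 X F) rfl F.v1_ne, one (l2 X F) rfl v2ne, one (l3 X F) rfl v3ne⟩
  -- agreement on the three lines and the common fixed space
  have ext4 : ∀ {g h : S}, D.ρ g F.v1 = D.ρ h F.v1 → D.ρ g F.v2 = D.ρ h F.v2 →
      D.ρ g F.v3 = D.ρ h F.v3 → (∀ a, F.In0 a → D.ρ g a = D.ρ h a) → g = h := by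
    intro g h e1 e2 e3 e0
    apply D.inj
    ext v
    obtain ⟨a, i, j, k, ha, rfl⟩ := F.coords v
    simp only [map_add, map_smul, e0 a ha, e1, e2, e3]
  have M_coords : ∀ u ∈ M X F, ∃ i j k : ZMod 3, u = 0 + i • F.v1 + j • F.v2 + k • F.v3 := by
    intro u hu
    induction hu using Submodule.span_induction with
    | mem u hu =>
      obtain ⟨W, rfl⟩ := hu
      obtain ⟨u, hu⟩ : ∃ u, u = vec W := ⟨_, rfl⟩
      have hw : u ∈ W.1 := by
        rw [hu, span_vec W]; exact Submodule.mem_span_singleton_self _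
      rw [← hu]
      rcases hall W with h | h | h <;> rw [h] at hw <;>
        obtain ⟨c, hc⟩ := Submodule.mem_span_singleton.mp hw
      · exact ⟨c, 0, 0, by rw [← hc]; simp⟩
      · exact ⟨0, c, 0, by rw [← hc]; simp⟩
      · exact ⟨0, 0, c, by rw [← hc]; simp⟩
    | zero => exact ⟨0, 0, 0, by simp⟩
    | add u w _ _ h1 h2 =>
      obtain ⟨i, j, k, rfl⟩ := h1
      obtain ⟨i', j', k', rfl⟩ := h2
      exact ⟨i + i', j + j', k + k', by simp only [add_smul]; abel⟩
    | smul c u _ h1 =>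
      obtain ⟨i, j, k, rfl⟩ := h1
      exact ⟨c * i, c * j, c * k, by simp [smul_add, smul_smul]⟩
  have cen : ∀ r ∈ X.R, ∀ a ∈ A, (a = F.x ∨ a = F.y) → r * a * r⁻¹ = a := by
    intro r hr a ha hor
    have haR := H.le ha
    have ha' := H.normR r hr a ha
    have ha'R := H.le ha'
    have onv : ∀ v : E, (D.ρ r v = v ∨ D.ρ r v = -v) → (D.ρ a v = v ∨ D.ρ a v = -v) →
        D.ρ (r * a * r⁻¹) v = D.ρ a v := by
      intro v hv hav
      have hi : D.ρ r⁻¹ v = D.ρ r v := by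
        rcases hv with h | h
        · conv_lhs => rw [← h]
          rw [D.rho_inv_cancel, h]
        · conv_lhs => rw [← neg_neg v, ← h, map_neg, D.rho_inv_cancel]
          exact h.symm
      rw [D.rho_mul, D.rho_mul, hi]
      rcases hv with h | h <;> rcases hav with h' | h' <;> simp [h, h']
    obtain ⟨s1, s2, s3⟩ := sgn r hr
    obtain ⟨t1, t2, t3⟩ := sgn a haR
    refine ext4 (onv _ s1 t1) (onv _ s2 t2) (onv _ s3 t3) fun c hc => ?_
    have hin : F.In0 (D.ρ (r * a * r⁻¹) c) := by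
      refine ⟨?_, ?_⟩
      · rw [← D.rho_mul, H.comm _ H.xA _ ha', D.rho_mul, hc.1]
      · rw [← D.rho_mul, H.comm _ H.yA _ ha', D.rho_mul, hc.2]
    obtain ⟨i, j, k, e⟩ := M_coords _ ((R_modTriv (F := F) ha'R).2 c)
    have e' : D.ρ (r * a * r⁻¹) c + (0 : ZMod 3) • F.v1 + (0 : ZMod 3) • F.v2 + (0 : ZMod 3) • F.v3 =
        c + i • F.v1 + j • F.v2 + k • F.v3 := by
      rw [sub_eq_iff_eq_add] at e
      rw [e]; simp; abel
    obtain ⟨h0, -, -, -⟩ := F.coords_inj hin hc e'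
    rw [h0]
    rcases hor with rfl | rfl
    · exact hc.1.symm
    · exact hc.2.symm
  have hcx : ∀ r ∈ X.R, r * F.x = F.x * r := fun r hr =>
    mul_inv_eq_iff_eq_mul.mp (cen r hr _ H.xA (Or.inl rfl))
  have hcy : ∀ r ∈ X.R, r * F.y = F.y * r := fun r hr =>
    mul_inv_eq_iff_eq_mul.mp (cen r hr _ H.yA (Or.inr rfl))
  have hfix : ∀ r ∈ X.R, ∀ a, F.In0 a → D.ρ r a = a := by
    have := X.fix_of_b_fix {a | F.In0 a} (fun r hr a ha => ⟨by
      rw [← D.rho_mul, ← hcx r hr, D.rho_mul, ha.1], by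
      rw [← D.rho_mul, ← hcy r hr, D.rho_mul, ha.2]⟩) fun a ha => F.b_fix0 ha
    exact fun r hr a ha => this hr a ha
  have rcomm : ∀ r ∈ X.R, ∀ s ∈ X.R, r * s = s * r := by
    intro r hr s hs
    obtain ⟨r1, r2, r3⟩ := sgn r hr
    obtain ⟨q1, q2, q3⟩ := sgn s hs
    have one : ∀ v : E, (D.ρ r v = v ∨ D.ρ r v = -v) → (D.ρ s v = v ∨ D.ρ s v = -v) →
        D.ρ (r * s) v = D.ρ (s * r) v := by
      intro v h h'
      rw [D.rho_mul, D.rho_mul]
      rcases h with h | h <;> rcases h' with h' | h' <;> simp [h, h']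
    exact ext4 (one _ r1 q1) (one _ r2 q2) (one _ r3 q3) fun a ha => by
      rw [D.rho_mul, D.rho_mul, hfix r hr a ha, hfix s hs a ha, hfix r hr a ha]
  letI : CommGroup X.R := { (inferInstance : Group X.R) with
    mul_comm := fun a b => Subtype.ext (rcomm a a.2 b b.2) }
  have hb2 : ∀ r ∈ X.R, D.b * (D.b * r * D.b⁻¹) * D.b⁻¹ ∈ X.R := fun r hr => X.bR _ (X.bR r hr)
  let f : X.R →* X.R :=
    { toFun := fun r => r * ⟨D.b * r * D.b⁻¹, X.bR r r.2⟩ *
        ⟨D.b * (D.b * r * D.b⁻¹) * D.b⁻¹, hb2 r r.2⟩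
      map_one' := Subtype.ext (by simp)
      map_mul' := fun r s => by
        have e1 : (⟨D.b * (r * s : X.R) * D.b⁻¹, X.bR _ (r * s).2⟩ : X.R) =
            ⟨D.b * r * D.b⁻¹, X.bR r r.2⟩ * ⟨D.b * s * D.b⁻¹, X.bR s s.2⟩ :=
          Subtype.ext (by simp [mul_assoc])
        have e2 : (⟨D.b * (D.b * (r * s : X.R) * D.b⁻¹) * D.b⁻¹, hb2 _ (r * s).2⟩ : X.R) =
            ⟨D.b * (D.b * r * D.b⁻¹) * D.b⁻¹, hb2 r r.2⟩ * ⟨D.b * (D.b * s * D.b⁻¹) * D.b⁻¹, hb2 s s.2⟩ :=
          Subtype.ext (by simp [mul_assoc])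
        rw [e1, e2]
        ac_rfl }
  have hf : ∀ r, f r = 1 := by
    refine X.hom_trivial f fun r => ?_
    simp only [f, MonoidHom.coe_mk, OneHom.coe_mk]
    have e : (⟨D.b * (D.b * (D.b * (r : S) * D.b⁻¹) * D.b⁻¹) * D.b⁻¹, hb2 _ (X.bR r r.2)⟩ : X.R) = r := by
      refine Subtype.ext ?_
      show D.b * (D.b * (D.b * (r : S) * D.b⁻¹) * D.b⁻¹) * D.b⁻¹ = r
      have e' : D.b * (D.b * (D.b * (r : S) * D.b⁻¹) * D.b⁻¹) * D.b⁻¹ =
          D.b ^ 3 * r * (D.b ^ 3)⁻¹ := by rw [pow_succ, pow_two]; group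
      rw [e', D.b3, one_mul, inv_one, mul_one]
    rw [e]
    ac_rfl
  intro r hr
  obtain ⟨s1, s2, s3⟩ := sgn r hr
  have hprod := congrArg (fun t : X.R => D.ρ (t : S) F.v1) (hf ⟨r, hr⟩)
  have hbi3 : D.ρ D.b⁻¹ F.v1 = F.v3 := by conv_lhs => rw [← F.b_v3, D.rho_inv_cancel]
  have hbi2 : D.ρ D.b⁻¹ F.v3 = F.v2 := D.rho_inv_cancel _ _
  simp only [f, MonoidHom.coe_mk, OneHom.coe_mk, Subgroup.coe_mul, OneMemClass.coe_one, D.rho_mul,
    D.rho_one, hbi3, hbi2] at hprod
  have bv2 : D.ρ D.b F.v2 = F.v3 := rfl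
  have hneg : -F.v1 ≠ F.v1 := fun e => F.v1_ne (eq_zero_of_eq_neg e.symm)
  have hz : ∀ v, D.ρ F.z v = D.ρ F.x (D.ρ F.y v) := F.rho_z
  rcases s1 with e1 | e1 <;> rcases s2 with e2 | e2 <;> rcases s3 with e3 | e3 <;>
    simp only [e1, e2, e3, map_neg, bv2, F.b_v3, hbi2, hbi3, neg_neg] at hprod
  · refine Or.inl (ext4 ?_ ?_ ?_ fun a ha => ?_)
    · rw [e1, D.rho_one]
    · rw [e2, D.rho_one]
    · rw [e3, D.rho_one]
    · rw [hfix r hr a ha, D.rho_one]
  · exact absurd hprod hneg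
  · exact absurd hprod hneg
  · refine Or.inr (Or.inl (ext4 ?_ ?_ ?_ fun a ha => ?_))
    · rw [e1, F.v1_in.1]
    · rw [e2, F.v2_in.1]
    · rw [e3, F.v3_in.1]
    · rw [hfix r hr a ha, ha.1]
  · exact absurd hprod hneg
  · refine Or.inr (Or.inr (Or.inl (ext4 ?_ ?_ ?_ fun a ha => ?_)))
    · rw [e1, F.v1_in.2]
    · rw [e2, F.v2_in.2]
    · rw [e3, F.v3_in.2]
    · rw [hfix r hr a ha, ha.2]
  · refine Or.inr (Or.inr (Or.inr (ext4 ?_ ?_ ?_ fun a ha => ?_)))
    · rw [e1, hz, F.v1_in.2, map_neg, F.v1_in.1]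
    · rw [e2, hz, F.v2_in.2, F.v2_in.1]
    · rw [e3, hz, F.v3_in.2, map_neg, F.v3_in.1, neg_neg]
    · rw [hfix r hr a ha, hz, ha.2, ha.1]
  · exact absurd hprod hneg

set_option maxHeartbeats 1000000 in
include H in
/-- With four lines, `R` is in the extraspecial case. -/
theorem four_case (hcard : Nat.card (Ω X F) = 4) : ∃ j, ExtraCase X F j := by
  classical
  have : Fintype (Ω X F) := Fintype.ofFinite _
  have hc : Fintype.card (Ω X F) = 4 := by rwa [← Nat.card_eq_fintype_card]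
  let e := Fintype.equivFinOfCardEq hc
  obtain ⟨W₀, w1, w2, w3⟩ : ∃ W₀ : Ω X F, W₀ ≠ l1 X F ∧ W₀ ≠ l2 X F ∧ W₀ ≠ l3 X F := by
    by_contra hno
    push Not at hno
    have hle : (Finset.univ : Finset (Ω X F)) ⊆ {l1 X F, l2 X F, l3 X F} := fun W _ => by
      simp only [Finset.mem_insert, Finset.mem_singleton]
      by_contra h
      push Not at h
      exact h.2.2 (hno W h.1 h.2.1)
    have := (Finset.card_le_card hle).trans Finset.card_le_three
    rw [Finset.card_univ, hc] at this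
    omega
  have hall : ∀ W : Ω X F, W = W₀ ∨ W = l1 X F ∨ W = l2 X F ∨ W = l3 X F := by
    have hu : ({W₀, l1 X F, l2 X F, l3 X F} : Finset (Ω X F)) = Finset.univ :=
      Finset.eq_univ_of_card _ (by
        rw [hc, Finset.card_insert_of_notMem, Finset.card_insert_of_notMem,
          Finset.card_insert_of_notMem, Finset.card_singleton]
        · simp [lines_ne.2.1]
        · simp [lines_ne.1, lines_ne.2.2.symm]
        · simp [w1, w2, w3])
    intro W
    have := Finset.mem_univ W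
    rw [← hu] at this
    simpa using this
  have dich : ∀ r : X.R, φ X F (toK r) = 1 ∨
      (φ X F (toK r) * φ X F (toK r) = 1 ∧ ∀ W, φ X F (toK r) W ≠ W) := by
    intro r
    obtain ⟨σ, hσ⟩ : ∃ σ, σ = φ X F (toK r) := ⟨_, rfl⟩
    rw [← hσ]
    have h24 : σ ^ 24 = 1 := by
      have := pow_card_eq_one' (G := Equiv.Perm (Ω X F)) (x := σ)
      rwa [Nat.card_eq_fintype_card, Fintype.card_perm, hc] at this
    have h8 : σ ^ 8 = 1 := H.pow_coprime hσ h24 rfl
    have hpow : ∀ n : ℕ, e.permCongrHom σ ^ n = e.permCongrHom (σ ^ n) := fun n => (map_pow _ _ _).symm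
    rcases (by decide +kernel : ∀ τ : Equiv.Perm (Fin 4), Equiv.Perm.sign τ = 1 → τ ^ 8 = 1 →
        τ = 1 ∨ (τ * τ = 1 ∧ ∀ i, τ i ≠ i)) (e.permCongrHom σ)
        (by
          show Equiv.Perm.sign (e.permCongr σ) = 1
          rw [Equiv.Perm.sign_permCongr, hσ]; exact H.sign_one r)
        (by rw [hpow, h8, map_one]) with h | ⟨h, h'⟩
    · exact Or.inl (e.permCongrHom.injective (h.trans (map_one _).symm))
    · refine Or.inr ⟨e.permCongrHom.injective (by rw [map_mul, h, map_one]), fun W hW => h' (e W) ?_⟩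
      show e.permCongr σ (e W) = e W
      simp [hW]
  have pm : ∀ (g : K X) (W : Ω X F), coeff g W * coeff g W = 1 := fun g W => by
    have := (by decide : ∀ k : ZMod 3, k ≠ 0 → k * k = 1) _ (coeff_ne g W)
    exact this
  -- negation of all the lines
  have neg_unique : ∀ {a c : S}, a ∈ X.R → c ∈ X.R → (∀ W : Ω X F, D.ρ a (vec W) = -vec W) →
      (∀ W : Ω X F, D.ρ c (vec W) = -vec W) → a = c := by
    intro a c ha hc' h h'
    refine (inv_mul_eq_one.mp (H.faithful (X.R.mul_mem (X.R.inv_mem ha) hc') fun W => ?_))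
    rw [D.rho_mul, h', map_neg, ← neg_inj, neg_neg]
    conv_lhs => rw [← neg_neg (vec W), ← h W]
    rw [map_neg, D.rho_inv_cancel]
  have sq : ∀ r : X.R, (r : S) * r = 1 ∨ ∀ W : Ω X F, D.ρ ((r : S) * r) (vec W) = -vec W := by
    intro r
    have hsq : ∀ W, D.ρ ((r : S) * r) (vec W) =
        (coeff (toK r) W * coeff (toK r) (φ X F (toK r) W)) • vec (φ X F (toK r * toK r) W) := by
      intro W
      rw [← coeff_mul]
      exact coeff_spec (toK r * toK r) W
    rcases dich r with h | ⟨h, hne⟩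
    · refine Or.inl (H.faithful (X.R.mul_mem r.2 r.2) fun W => ?_)
      rw [hsq, map_mul, h, one_mul, Equiv.Perm.one_apply, pm, one_smul]
    · have hh : φ X F (toK r * toK r) = 1 := by rw [map_mul, h]
      have hp := prod_one (F := F) r
      have key : ∀ W W', coeff (toK r) W * coeff (toK r) (φ X F (toK r) W) =
          coeff (toK r) W' * coeff (toK r) (φ X F (toK r) W') := by
        intro W W'
        have hdec : ∀ (τ : Equiv.Perm (Fin 4)) (u : Fin 4 → ZMod 3), τ * τ = 1 → (∀ i, τ i ≠ i) →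
            (∀ i, u i ≠ 0) → ∏ i, u i = 1 → ∀ i k, u i * u (τ i) = u k * u (τ k) := by
          intro τ u h1 h2 h3 h4 i k
          have ev : ∀ τ : Equiv.Perm (Fin 4), τ * τ = 1 → (∀ i, τ i ≠ i) → ∀ i k, k = i ∨ k = τ i ∨
              (Finset.univ : Finset (Fin 4)) = {i, τ i, k, τ k} ∧ i ≠ τ i ∧ i ≠ k ∧ i ≠ τ k ∧
                τ i ≠ k ∧ τ i ≠ τ k ∧ k ≠ τ k := by decide +kernel
          rcases ev τ h1 h2 i k with rfl | rfl | ⟨hu, a1, a2, a3, a4, a5, a6⟩
          · rfl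
          · rw [← Equiv.Perm.mul_apply, h1, Equiv.Perm.one_apply, mul_comm]
          · rw [hu, Finset.prod_insert (by simp [a1, a2, a3]), Finset.prod_insert (by simp [a4, a5]),
              Finset.prod_insert (by simp [a6]), Finset.prod_singleton] at h4
            exact (by decide : ∀ p q s t : ZMod 3, p ≠ 0 → q ≠ 0 → s ≠ 0 → t ≠ 0 →
              p * (q * (s * t)) = 1 → p * q = s * t) _ _ _ _ (h3 _) (h3 _) (h3 _) (h3 _) h4
        have := hdec (e.permCongrHom (φ X F (toK r))) (fun i => coeff (toK r) (e.symm i))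
          (by rw [← map_mul, h, map_one]) (fun i hi => hne (e.symm i) (e.injective (by
            have : e.permCongr (φ X F (toK r)) i = i := hi
            simpa using this))) (fun i => coeff_ne _ _) (by
            rw [Equiv.prod_comp e.symm (fun W => coeff (toK r) W)]; exact hp) (e W) (e W')
        simpa using this
      rcases (by decide : ∀ k : ZMod 3, k = 0 ∨ k = 1 ∨ k = -1)
        (coeff (toK r) W₀ * coeff (toK r) (φ X F (toK r) W₀)) with h0 | h0 | h0
      · exact absurd h0 (mul_ne_zero (coeff_ne _ _) (coeff_ne _ _))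
      · refine Or.inl (H.faithful (X.R.mul_mem r.2 r.2) fun W => ?_)
        rw [hsq, hh, Equiv.Perm.one_apply, key W W₀, h0, one_smul]
      · refine Or.inr fun W => ?_
        rw [hsq, hh, Equiv.Perm.one_apply, key W W₀, h0, neg_smul, one_smul]
  have fix_of_comm : ∀ r : X.R, (r : S) * F.x = F.x * r → (r : S) * F.y = F.y * r →
      φ X F (toK r) = 1 := by
    intro r hx hy
    rcases dich r with h | ⟨-, hne⟩
    · exact h
    exfalso
    have hin : F.In1 (D.ρ (r : S) F.v1) := ⟨by rw [← D.rho_mul, ← hx, D.rho_mul, F.v1_in.1],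
      by rw [← D.rho_mul, ← hy, D.rho_mul, F.v1_in.2, map_neg]⟩
    obtain ⟨k, hk⟩ := F.in1_eq hin
    refine hne (l1 X F) (Subtype.ext ((map_line _ _).trans ?_))
    show Submodule.span (ZMod 3) {D.ρ (r : S) F.v1} = _
    rw [hk, Submodule.span_singleton_smul_eq]
    · rfl
    · exact isUnit_iff_ne_zero.mpr fun e0 => F.v1_ne (D.rho_injective (r : S)
        (by rw [hk, e0, zero_smul, map_zero]))
  have moves : ∃ r : X.R, φ X F (toK r) W₀ ≠ W₀ := by
    by_contra hno
    push Not at hno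
    obtain ⟨g, hg⟩ := transitive W₀
    obtain ⟨r, hr, i, hgi⟩ := exists_decomp X g.2
    have h1 : φ X F (toK ⟨r, hr⟩) = 1 := by
      rcases dich ⟨r, hr⟩ with h | ⟨-, hne⟩
      · exact h
      · exact absurd (hno ⟨r, hr⟩) (hne W₀)
    have hg' : g = toK ⟨r, hr⟩ * (⟨D.b, b_mem X⟩ : K X) ^ i := Subtype.ext hgi
    rw [hg', map_mul, h1, one_mul, map_pow] at hg
    have horb : ∀ i : ℕ, (φ X F ⟨D.b, b_mem X⟩ ^ i) (l1 X F) = l1 X F ∨
        (φ X F ⟨D.b, b_mem X⟩ ^ i) (l1 X F) = l2 X F ∨ (φ X F ⟨D.b, b_mem X⟩ ^ i) (l1 X F) = l3 X F := by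
      intro i
      induction i with
      | zero => left; rfl
      | succ i ih =>
        rw [pow_succ', Equiv.Perm.mul_apply]
        rcases ih with h | h | h <;> rw [h]
        · exact Or.inr (Or.inl φb1)
        · exact Or.inr (Or.inr φb2)
        · exact Or.inl φb3
    rcases horb i with h | h | h <;> rw [h] at hg
    · exact w1 hg.symm
    · exact w2 hg.symm
    · exact w3 hg.symm
  -- the negating element
  obtain ⟨j, hjR, hjneg⟩ : ∃ j ∈ X.R, ∀ W : Ω X F, D.ρ j (vec W) = -vec W := by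
    by_contra hno
    push Not at hno
    have hexp : ∀ a ∈ X.R, a * a = 1 := fun a ha => (sq ⟨a, ha⟩).resolve_right fun h => by
      obtain ⟨W, hW⟩ := hno _ (X.R.mul_mem ha ha)
      exact hW (h W)
    have hcomm : ∀ a ∈ X.R, ∀ c ∈ X.R, a * c = c * a := fun a ha c hc' => by
      have h := inv_eq_of_mul_eq_one_right (hexp _ (X.R.mul_mem ha hc'))
      rw [mul_inv_rev, inv_eq_of_mul_eq_one_right (hexp a ha), inv_eq_of_mul_eq_one_right (hexp c hc')] at h
      exact h.symm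
    obtain ⟨r, hr⟩ := moves
    refine hr ?_
    rw [fix_of_comm r (hcomm _ r.2 _ (H.le H.xA)) (hcomm _ r.2 _ (H.le H.yA))]
    rfl
  have hjc : ∀ g : K X, (g : S) * j = j * g := by
    intro g
    have hgj : (g : S) * j * (g : S)⁻¹ ∈ X.R := by
      obtain ⟨r, hr, i, e⟩ := exists_decomp X g.2
      have hb : D.b ^ i ∈ normalizer (X.R : Set S) := pow_mem (b_normalizes X) i
      rw [e]
      have := X.R.mul_mem (X.R.mul_mem hr ((mem_normalizer_iff.mp hb j).mp hjR)) (X.R.inv_mem hr)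
      simpa [mul_assoc] using this
    have hn : ∀ W : Ω X F, D.ρ ((g : S) * j * (g : S)⁻¹) (vec W) = -vec W := by
      intro W
      rw [D.rho_mul, D.rho_mul, show D.ρ (g : S)⁻¹ (vec W) = coeff g⁻¹ W • vec (φ X F g⁻¹ W) from
        coeff_spec g⁻¹ W, map_smul, hjneg, smul_neg, map_neg,
        ← coeff_spec g⁻¹ W, show D.ρ ((g⁻¹ : K X) : S) (vec W) = D.ρ (g : S)⁻¹ (vec W) from rfl,
        D.rho_cancel_inv]
    exact mul_inv_eq_iff_eq_mul.mp (neg_unique hgj hjR hn hjneg)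
  have hj1 : j ≠ 1 := fun h => vec_ne W₀ (eq_zero_of_eq_neg (by
    have := hjneg W₀; rwa [h, D.rho_one] at this))
  have hjj : j * j = 1 := H.faithful (X.R.mul_mem hjR hjR) fun W => by
    rw [D.rho_mul, hjneg, map_neg, hjneg, neg_neg]
  refine ⟨j, ⟨H.le H.xA, H.le H.yA, hjR, hj1, hjj, (hjc ⟨D.b, b_mem X⟩).symm,
    fun r hr => (hjc ⟨r, R_le X hr⟩).symm, fun r hr => ?_, fun c hcR hcc => ?_⟩⟩
  · exact (sq ⟨r, hr⟩).imp id fun h => neg_unique (X.R.mul_mem hr hr) hjR h hjneg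
  · have hσ := fix_of_comm ⟨c, hcR⟩ (hcc _ (H.le H.xA)) (hcc _ (H.le H.yA))
    have hcv : ∀ W : Ω X F, D.ρ c (vec W) = coeff (toK (⟨c, hcR⟩ : X.R)) W • vec W := fun W => by
      have := coeff_spec (toK (⟨c, hcR⟩ : X.R)) W
      rwa [hσ, Equiv.Perm.one_apply] at this
    have eqc : ∀ (g : S) (hg : g ∈ X.R), coeff (toK (⟨c, hcR⟩ : X.R)) W₀ =
        coeff (toK (⟨c, hcR⟩ : X.R)) (φ X F (toK ⟨g, hg⟩) W₀) := by
      intro g hg
      have h1 : D.ρ c (D.ρ g (vec W₀)) = D.ρ g (D.ρ c (vec W₀)) := by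
        rw [← D.rho_mul, hcc g hg, D.rho_mul]
      rw [hcv, map_smul, show D.ρ g (vec W₀) = coeff (toK ⟨g, hg⟩) W₀ • vec (φ X F (toK ⟨g, hg⟩) W₀)
        from coeff_spec (F := F) (toK ⟨g, hg⟩) W₀, map_smul, hcv, smul_smul, smul_smul, ← sub_eq_zero, ← sub_smul,
        smul_eq_zero] at h1
      have h2 := sub_eq_zero.mp (h1.resolve_right (vec_ne _))
      rw [mul_comm (coeff _ W₀)] at h2
      exact (mul_right_cancel₀ (coeff_ne _ _) h2).symm
    obtain ⟨r, hr⟩ := moves
    have hbW : φ X F ⟨D.b, b_mem X⟩ W₀ = W₀ := by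
      rcases H.vec_cases W₀ with (h | h | h) | h
      · exact absurd h w1
      · exact absurd h w2
      · exact absurd h w3
      · exact H.φb_fix h
    have shift : ∀ (g : S) (hg : g ∈ X.R), φ X F (toK ⟨D.b * g * D.b⁻¹, X.bR g hg⟩) W₀ =
        φ X F ⟨D.b, b_mem X⟩ (φ X F (toK ⟨g, hg⟩) W₀) := by
      intro g hg
      have e1 : (toK ⟨D.b * g * D.b⁻¹, X.bR g hg⟩ : K X) =
          ⟨D.b, b_mem X⟩ * toK ⟨g, hg⟩ * (⟨D.b, b_mem X⟩ : K X)⁻¹ := rfl
      rw [e1, map_mul, map_mul, map_inv, Equiv.Perm.mul_apply, Equiv.Perm.mul_apply]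
      conv_lhs => rw [show (φ X F ⟨D.b, b_mem X⟩)⁻¹ W₀ = W₀ by
        rw [Equiv.Perm.inv_eq_iff_eq]; exact hbW.symm]
    have all_eq : ∀ W : Ω X F, coeff (toK (⟨c, hcR⟩ : X.R)) W = coeff (toK (⟨c, hcR⟩ : X.R)) W₀ := by
      have e0 := eqc r r.2
      have e1 := eqc _ (X.bR _ r.2)
      have e2 := eqc _ (X.bR _ (X.bR _ r.2))
      rw [shift _ r.2] at e1
      rw [shift _ (X.bR _ r.2), shift _ r.2] at e2
      intro W
      rcases hall (φ X F (toK r) W₀) with h | h | h | h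
      · exact absurd h hr
      all_goals
        rw [show φ X F (toK ⟨(r : S), r.2⟩) W₀ = φ X F (toK r) W₀ from rfl, h] at e0 e1 e2
        simp only [φb1, φb2, φb3] at e1 e2
        rcases hall W with rfl | rfl | rfl | rfl <;>
          first
            | rfl
            | exact e0.symm
            | exact e1.symm
            | exact e2.symm
    rcases (by decide : ∀ k : ZMod 3, k = 0 ∨ k = 1 ∨ k = -1) (coeff (toK (⟨c, hcR⟩ : X.R)) W₀) with
      h0 | h0 | h0
    · exact absurd h0 (coeff_ne _ _)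
    · exact Or.inl (H.faithful hcR fun W => by rw [hcv, all_eq, h0, one_smul])
    · exact Or.inr (neg_unique hcR hjR (fun W => by rw [hcv, all_eq, h0, neg_smul, one_smul]) hjneg)

include H in
/-- The conclusion of the abelian case. -/
theorem conclusion [Group.IsSolvable S] :
    (∀ r ∈ X.R, r = 1 ∨ r = F.x ∨ r = F.y ∨ r = F.z) ∨ ∃ j, ExtraCase X F j := by
  classical
  have : Fintype (Ω X F) := Fintype.ofFinite _
  have hR3 : ¬ 3 ∣ Nat.card (X.R.subgroupOf (K X)) := by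
    rw [Nat.card_congr (Subgroup.subgroupOfEquivOfLe (R_le X)).toEquiv]
    exact H.three
  have hle : Nat.card (Ω X F) ≤ 4 := by
    refine three_cycle_small (φ X F) (X.R.subgroupOf (K X)) ⟨D.b, b_mem X⟩ hR3 (fun r hr => ?_)
      (fun g => ?_) H.is3 transitive
    · exact X.bR _ hr
    · obtain ⟨r, hr, i, e⟩ := exists_decomp X g.2
      exact ⟨⟨r, R_le X hr⟩, hr, i, Subtype.ext e⟩
  have hge : 3 ≤ Nat.card (Ω X F) := by
    rw [Nat.card_eq_fintype_card]
    refine le_trans (le_of_eq ?_) (Finset.card_le_univ {l1 X F, l2 X F, l3 X F})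
    rw [Finset.card_insert_of_notMem, Finset.card_insert_of_notMem, Finset.card_singleton]
    · simp [lines_ne.2.1]
    · simp [lines_ne.1, lines_ne.2.2.symm]
  rcases (show Nat.card (Ω X F) = 3 ∨ Nat.card (Ω X F) = 4 by omega) with h | h
  · exact Or.inl (H.three_case h)
  · exact Or.inr (H.four_case h)

end LineCase

end Cfsg.Agent.CubicBlock
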