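import Cfsg.Agent.CubicBlock.Basic
import Cfsg.Agent.Coprime.Generation

/-!
# Rigidity consequences of a four-group permuted by an element with a single cubic block
-/

set_option autoImplicit false

namespace Cfsg.Agent.CubicBlock

open Subgroup

variable {S E : Type*} [Group S] [AddCommGroup E] [Module (ZMod 3) E]

/-- The subgroup of elements fixing a set of vectors pointwise. -/
def fixer (D : Data S E) (U : Set E) : Subgroup S where
  carrier := {g | ∀ v ∈ U, D.ρ g v = v}
  mul_mem' {g h} hg hh := fun v hv => by rw [D.rho_mul, hh v hv, hg v hv]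
  one_mem' := fun v _ => D.rho_one v
  inv_mem' {g} hg := fun v hv => by
    conv_lhs => rw [← hg v hv]
    exact D.rho_inv_cancel _ _

theorem mem_fixer {D : Data S E} {U : Set E} {g : S} : g ∈ fixer D U ↔ ∀ v ∈ U, D.ρ g v = v :=
  Iff.rfl

theorem fix_of_gcd {D : Data S E} {g : S} {v : E} {n m : ℕ} (hn : D.ρ (g ^ n) v = v)
    (hm : D.ρ (g ^ m) v = v) (h : n.Coprime m) : D.ρ g v = v := by
  have hg : g ∈ Subgroup.closure ({g ^ n, g ^ m} : Set S) := by
    have e : g = (g ^ n) ^ (n.gcdA m) * (g ^ m) ^ (n.gcdB m) := by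
      rw [← zpow_natCast g n, ← zpow_natCast g m, ← zpow_mul, ← zpow_mul, ← zpow_add,
        ← Nat.gcd_eq_gcd_ab, h.gcd_eq_one, Nat.cast_one, zpow_one]
    have m1 : g ^ n ∈ Subgroup.closure ({g ^ n, g ^ m} : Set S) :=
      Subgroup.subset_closure (Set.mem_insert _ _)
    have m2 : g ^ m ∈ Subgroup.closure ({g ^ n, g ^ m} : Set S) :=
      Subgroup.subset_closure (Set.mem_insert_of_mem _ (Set.mem_singleton _))
    have := mul_mem (zpow_mem m1 (n.gcdA m)) (zpow_mem m2 (n.gcdB m))
    rwa [← e] at this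
  have hle : Subgroup.closure ({g ^ n, g ^ m} : Set S) ≤ fixer D {v} := by
    rw [closure_le]
    rintro u (rfl | rfl) w hw <;> cases hw <;> assumption
  exact hle hg v rfl

/-- An element of order prime to six fixes an invariant set of at most nine vectors forming a
subspace. -/
theorem fix_of_small {D : Data S E} [Finite E] {g : S} {n : ℕ} (hn : g ^ n = 1) (hcop : n.Coprime 6)
    (W : Submodule (ZMod 3) E) (hW : Nat.card W ≤ 9) (hg : ∀ w ∈ W, D.ρ g w ∈ W) :
    ∀ w ∈ W, D.ρ g w = w := by
  intro v hv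
  by_contra hne
  have hit : ∀ (i : ℕ) (u : E), (D.ρ g)^[i] u = D.ρ (g ^ i) u := by
    intro i u
    induction i with
    | zero => simp
    | succ i ih => rw [Function.iterate_succ_apply', ih, pow_succ', D.rho_mul]
  have hper : Function.IsPeriodicPt (D.ρ g) n v := by
    rw [Function.IsPeriodicPt, Function.IsFixedPt, hit, hn, D.rho_one]
  set m := Function.minimalPeriod (D.ρ g) v with hm
  have hmn : m ∣ n := hper.minimalPeriod_dvd
  have hn0 : 0 < n := by
    by_contra h0
    simp [Nat.le_zero.mp (not_lt.mp h0)] at hcop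
  have hm0 : 0 < m := hper.minimalPeriod_pos hn0
  have hm6 : m.Coprime 6 := hcop.coprime_dvd_left hmn
  have hm1 : m ≠ 1 := fun h => hne (by
    have := Function.iterate_minimalPeriod (f := D.ρ g) (x := v)
    rw [← hm, h, Function.iterate_one] at this
    exact this)
  have hm5 : 5 ≤ m := by
    by_contra h
    have hm' : m = 2 ∨ m = 3 ∨ m = 4 := by omega
    rcases hm' with h' | h' | h' <;> rw [h'] at hm6 <;> norm_num at hm6
  have hv0 : v ≠ 0 := fun h => hne (by rw [h, map_zero])
  have hmem : ∀ i : ℕ, (D.ρ g)^[i] v ∈ W := by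
    intro i
    induction i with
    | zero => exact hv
    | succ i ih => rw [Function.iterate_succ_apply']; exact hg _ ih
  let f : Fin m ⊕ Fin m → W := Sum.elim (fun j : Fin m => ⟨(D.ρ g)^[(j : ℕ)] v, hmem j⟩)
    (fun j : Fin m => ⟨-(D.ρ g)^[(j : ℕ)] v, W.neg_mem (hmem j)⟩)
  have hcross : ∀ i j : Fin m, (D.ρ g)^[i] v ≠ -(D.ρ g)^[j] v := by
    intro i j h
    have h' : ∀ k : ℕ, (D.ρ g)^[k + i] v = -(D.ρ g)^[k + j] v := by
      intro k
      induction k with
      | zero => simpa using h
      | succ k ih =>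
        rw [Nat.succ_add, Nat.succ_add, Function.iterate_succ_apply', Function.iterate_succ_apply',
          ih, map_neg]
    have hper2 : ∀ k : ℕ, k % m = 0 → (D.ρ g)^[k] v = v := fun k hk => by
      rw [← Function.iterate_mod_minimalPeriod_eq, ← hm, hk]; rfl
    -- shift so that `j` becomes zero
    have hj := h' (m - j)
    rw [Nat.sub_add_cancel j.2.le, hper2 m (Nat.mod_self m)] at hj
    set d := m - (j : ℕ) + i with hd
    have hdd : (D.ρ g)^[d + d] v = v := by
      rw [Function.iterate_add_apply, hj, hit d (-v), map_neg, ← hit d v, hj, neg_neg]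
    have hdvd : m ∣ d + d := by
      rw [hm]
      exact Function.IsPeriodicPt.minimalPeriod_dvd hdd
    have : m ∣ d := by
      have h2 : m.Coprime 2 := hm6.coprime_dvd_right (by norm_num)
      exact h2.dvd_of_dvd_mul_left (by rwa [two_mul])
    rw [hper2 d (Nat.mod_eq_zero_of_dvd this)] at hj
    exact hv0 (eq_zero_of_eq_neg hj)
  have hinj : ∀ i j : Fin m, (D.ρ g)^[i] v = (D.ρ g)^[j] v → i = j := fun i j h =>
    Fin.ext ((Function.iterate_eq_iterate_iff_of_lt_minimalPeriod (hm ▸ i.2) (hm ▸ j.2)).mp h)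
  have finj : Function.Injective f := by
    rintro (i | i) (j | j) h <;> have h' := congrArg Subtype.val h <;>
      simp only [f, Sum.elim_inl, Sum.elim_inr] at h'
    · rw [hinj i j h']
    · exact absurd h' (hcross i j)
    · exact absurd h'.symm (hcross j i)
    · rw [hinj i j (neg_inj.mp h')]
  have := (Nat.card_le_card_of_injective f finj).trans hW
  rw [Nat.card_sum, Nat.card_fin] at this
  omega

theorem card_span_pair_le [Finite E] (u v : E) :
    Nat.card ↥(Submodule.span (ZMod 3) ({u, v} : Set E)) ≤ 9 := by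
  let f : ZMod 3 × ZMod 3 → ↥(Submodule.span (ZMod 3) ({u, v} : Set E)) := fun k =>
    ⟨k.1 • u + k.2 • v, Submodule.mem_span_pair.mpr ⟨k.1, k.2, rfl⟩⟩
  have hf : Function.Surjective f := by
    rintro ⟨w, hw⟩
    obtain ⟨i, j, h⟩ := Submodule.mem_span_pair.mp hw
    exact ⟨(i, j), Subtype.ext h⟩
  have := Nat.card_le_card_of_surjective f hf
  rwa [Nat.card_prod, Nat.card_zmod] at this

namespace Four

variable {D : Data S E} (F : Four D)

/-- The four-group with its generators rotated. -/
def rot : Four D where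
  x := F.y
  y := F.z
  x1 := fun h => F.x1 (by
    have := F.bx
    rw [h, mul_inv_eq_one, mul_eq_left] at this
    exact this)
  xx := F.yy
  yy := by
    calc F.z * F.z = F.x * (F.y * F.x) * F.y := by unfold z; group
      _ = (F.x * F.x) * (F.y * F.y) := by rw [← F.xy]; group
      _ = 1 := by rw [F.xx, F.yy, mul_one]
  xy := by unfold z; rw [← mul_assoc, ← F.xy]
  bx := F.bxy
  bxy := by
    rw [F.bz]
    unfold z
    rw [F.xy, ← mul_assoc, F.yy, one_mul]

variable [Finite E]

theorem in_neg_x {v : E} (h : D.ρ F.x v = -v) :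
    v ∈ Submodule.span (ZMod 3) ({F.v2, F.v3} : Set E) := by
  obtain ⟨a, i, j, k, ha, e⟩ := F.coords v
  have e2 : -v = a + i • F.v1 + (-j) • F.v2 + (-k) • F.v3 := by
    rw [← h, e]
    simp only [map_add, map_smul, ha.1, F.v1_in.1, F.v2_in.1, F.v3_in.1, smul_neg, neg_smul]
  have e3 : -v = -a + (-i) • F.v1 + (-j) • F.v2 + (-k) • F.v3 := by
    rw [e]; simp only [neg_add, neg_smul]
  have hna : F.In0 (-a) := ⟨by rw [map_neg, ha.1], by rw [map_neg, ha.2]⟩
  obtain ⟨h1, h2, -, -⟩ := F.coords_inj ha hna (e2.symm.trans e3)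
  have hi : i = 0 := (by decide : ∀ i : ZMod 3, i = -i → i = 0) i h2
  rw [Submodule.mem_span_pair]
  refine ⟨j, k, ?_⟩
  rw [e, eq_zero_of_eq_neg h1, hi, zero_smul, add_zero, zero_add]

theorem card_neg_x (U : Submodule (ZMod 3) E) (hU : ∀ v ∈ U, D.ρ F.x v = -v) : Nat.card U ≤ 9 :=
  (Nat.card_mono (Set.toFinite _) fun v hv => F.in_neg_x (hU v hv)).trans (card_span_pair_le _ _)

/-- On the fixed space of `x` the involution `y` differs from the identity by a multiple of `v1`. -/
theorem y_on_pos {v : E} (h : D.ρ F.x v = v) : ∃ k : ZMod 3, D.ρ F.y v = v + k • F.v1 := by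
  obtain ⟨a, i, j, k, ha, e⟩ := F.coords v
  have e2 : v = a + i • F.v1 + (-j) • F.v2 + (-k) • F.v3 := by
    conv_lhs => rw [← h, e]
    simp only [map_add, map_smul, ha.1, F.v1_in.1, F.v2_in.1, F.v3_in.1, smul_neg, neg_smul]
  obtain ⟨-, -, hj, hk⟩ := F.coords_inj ha ha (e.symm.trans e2)
  have hj' : j = 0 := (by decide : ∀ i : ZMod 3, i = -i → i = 0) j hj
  have hk' : k = 0 := (by decide : ∀ i : ZMod 3, i = -i → i = 0) k hk
  rw [hj', hk', zero_smul, zero_smul, add_zero, add_zero] at e
  refine ⟨i, ?_⟩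
  rw [e, map_add, map_smul, ha.2, F.v1_in.2, smul_neg]
  have := neg_add_self_eq (i • F.v1)
  calc a + -(i • F.v1) = a + (i • F.v1 + (-(i • F.v1) - i • F.v1)) := by abel
    _ = a + i • F.v1 + i • F.v1 := by rw [this, add_assoc]

/-- An element of a subgroup of order prime to six normalised by `y` that commutes with `x`
commutes with `y`. -/
theorem commute_y (Y : Subgroup S) (hY : (Nat.card Y).Coprime 6)
    (hn : ∀ g ∈ Y, F.y * g * F.y⁻¹ ∈ Y) {g : S} (hg : g ∈ Y) (hx : g * F.x = F.x * g) :
    g * F.y = F.y * g := by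
  obtain ⟨c, hc⟩ : ∃ c, c = g⁻¹ * (F.y * g * F.y⁻¹) := ⟨_, rfl⟩
  have hyinv : F.y⁻¹ = F.y := inv_eq_of_mul_eq_one_right F.yy
  have hcY : c ∈ Y := by rw [hc]; exact Y.mul_mem (Y.inv_mem hg) (hn g hg)
  have pw : ∀ u ∈ Y, u ^ Nat.card Y = 1 := fun u hu => by
    have := pow_card_eq_one' (G := Y) (x := ⟨u, hu⟩)
    exact congrArg Subtype.val this
  have cg : Commute g F.x := hx
  have cy : Commute F.y F.x := F.xy.symm
  have hcx : c * F.x = F.x * c := by
    rw [hc]
    exact (cg.inv_left.mul_left ((cy.mul_left cg).mul_left cy.inv_left)).eq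
  have rx : ∀ {u : S}, u * F.x = F.x * u → ∀ v, D.ρ F.x (D.ρ u v) = D.ρ u (D.ρ F.x v) := fun h v => by
    rw [← D.rho_mul, ← h, D.rho_mul]
  have hc1 : c = 1 := by
    refine D.eq_one_of_fix fun v => ?_
    have hneg : ∀ w : E, D.ρ F.x w = -w → D.ρ c w = w := by
      intro w hw
      let U : Submodule (ZMod 3) E := LinearMap.ker (D.ρ F.x + LinearMap.id)
      have hU : ∀ u, u ∈ U ↔ D.ρ F.x u = -u := fun u => by
        simp [U, add_eq_zero_iff_eq_neg]
      refine fix_of_small (pw c hcY) hY U (F.card_neg_x U fun u hu => (hU u).mp hu) (fun u hu => ?_) w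
        ((hU w).mpr hw)
      rw [hU] at hu ⊢
      rw [rx hcx, hu, map_neg]
    have hpos : ∀ w : E, D.ρ F.x w = w → D.ρ c w = w := by
      intro w hw
      let W : Submodule (ZMod 3) E := Submodule.span (ZMod 3) {F.v1, D.ρ g⁻¹ F.v1}
      have hWx : ∀ u ∈ W, D.ρ F.x u = u := by
        intro u hu
        obtain ⟨i, j, rfl⟩ := Submodule.mem_span_pair.mp hu
        rw [map_add, map_smul, map_smul, F.v1_in.1, rx cg.inv_left.eq, F.v1_in.1]
      have hdiff : ∀ u, D.ρ F.x u = u → D.ρ c u - u ∈ W := by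
        intro u hu
        obtain ⟨i, hi⟩ := F.y_on_pos hu
        have hgy : D.ρ F.x (D.ρ g (D.ρ F.y u)) = D.ρ g (D.ρ F.y u) := by
          rw [rx hx, rx cy.eq, hu]
        obtain ⟨k, hk⟩ := F.y_on_pos hgy
        rw [hc, hyinv, D.rho_mul, D.rho_mul, D.rho_mul, hk, map_add, D.rho_inv_cancel, hi, map_smul]
        refine Submodule.mem_span_pair.mpr ⟨i, k, ?_⟩
        abel
      have hfix : ∀ u ∈ W, D.ρ c u = u :=
        fix_of_small (pw c hcY) hY W (card_span_pair_le _ _) fun u hu => by
          have := W.add_mem (hdiff u (hWx u hu)) hu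
          rwa [sub_add_cancel] at this
      obtain ⟨δ, hδ⟩ : ∃ δ, δ = D.ρ c w - w := ⟨_, rfl⟩
      have h1 : D.ρ c w = w + δ := by rw [hδ]; abel
      have hδW : D.ρ c δ = δ := hfix δ (hδ ▸ hdiff w hw)
      have h3 : D.ρ (c ^ 3) w = w := by
        rw [pow_succ, pow_two, D.rho_mul, D.rho_mul, h1, map_add, h1, hδW, map_add, map_add, h1, hδW]
        calc w + δ + δ + δ = w + (δ + δ + δ) := by abel
          _ = w := by rw [three_smul_eq_zero, add_zero]
      exact fix_of_gcd h3 (by rw [pw c hcY, D.rho_one])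
        (hY.coprime_dvd_right (by norm_num)).symm
    have e : v = -(v + D.ρ F.x v) + -(v - D.ρ F.x v) := by
      have := three_smul_eq_zero v
      calc v = v - (v + v + v) := by rw [this, sub_zero]
        _ = _ := by abel
    rw [e, map_add, hpos, hneg]
    · rw [map_neg, map_sub, F.rho_xx]; abel
    · rw [map_neg, map_add, F.rho_xx]; abel
  rw [hc, inv_mul_eq_one] at hc1
  calc g * F.y = F.y * g * F.y⁻¹ * F.y := by rw [← hc1]
    _ = F.y * g := by group

variable [Finite S]

theorem y_normalizes {Y : Subgroup S} (hn : ∀ g ∈ Y, F.x * g * F.x⁻¹ ∈ Y)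
    (hn' : ∀ g ∈ Y, F.y * g * F.y⁻¹ ∈ Y) : ∀ g ∈ Y, F.z * g * F.z⁻¹ ∈ Y := fun g hg => by
  have := hn _ (hn' g hg)
  simpa [z, mul_assoc] using this

/-- A subgroup of order prime to six normalised by the four-group centralises it. -/
theorem centralizes (Y : Subgroup S) (hY : (Nat.card Y).Coprime 6)
    (hn : ∀ g ∈ Y, F.x * g * F.x⁻¹ ∈ Y) (hn' : ∀ g ∈ Y, F.y * g * F.y⁻¹ ∈ Y) :
    ∀ g ∈ Y, g * F.x = F.x * g ∧ g * F.y = F.y * g := by
  have hz := F.y_normalizes hn hn'
  have norm : ∀ {u : S}, u * u = 1 → (∀ g ∈ Y, u * g * u⁻¹ ∈ Y) → u ∈ normalizer (Y : Set S) := by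
    intro u hu h
    rw [mem_normalizer_iff]
    refine fun g => ⟨h g, fun hg => ?_⟩
    have := h _ hg
    rw [inv_eq_of_mul_eq_one_right hu] at this
    have e : u * (u * g * u) * u = (u * u) * g * (u * u) := by group
    rwa [e, hu, one_mul, mul_one] at this
  let W : Subgroup S := centralizer ({F.x} : Set S) ⊓ centralizer ({F.y} : Set S)
  have memW : ∀ {g : S}, g * F.x = F.x * g → g * F.y = F.y * g → g ∈ W := fun h h' =>
    ⟨mem_centralizer_singleton_iff.mpr h, mem_centralizer_singleton_iff.mpr h'⟩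
  have hK : Y ≤ W := by
    have h2 : IsPGroup 2 (closure ({F.x, F.y} : Set S)) := by
      refine fun g => ⟨1, Subtype.ext ?_⟩
      have key : ∀ u ∈ closure ({F.x, F.y} : Set S), u * u = 1 ∧ u * F.x = F.x * u ∧ u * F.y = F.y * u := by
        intro u hu
        induction hu using closure_induction with
        | mem u hu =>
          rcases hu with rfl | rfl
          · exact ⟨F.xx, rfl, F.xy⟩
          · exact ⟨F.yy, F.xy.symm, rfl⟩
        | one => simp
        | mul u v hu hv h1 h2 =>
          have huv : u * v = v * u := by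
            have hle : closure ({F.x, F.y} : Set S) ≤ centralizer ({u} : Set S) := by
              rw [closure_le]
              rintro w (rfl | rfl)
              · exact mem_centralizer_singleton_iff.mpr h1.2.1.symm
              · exact mem_centralizer_singleton_iff.mpr h1.2.2.symm
            exact (mem_centralizer_singleton_iff.mp (hle hv)).symm
          refine ⟨?_, ?_, ?_⟩
          · calc u * v * (u * v) = u * (v * u) * v := by group
              _ = (u * u) * (v * v) := by rw [← huv]; group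
              _ = 1 := by rw [h1.1, h2.1, mul_one]
          · rw [mul_assoc, h2.2.1, ← mul_assoc, h1.2.1, mul_assoc]
          · rw [mul_assoc, h2.2.2, ← mul_assoc, h1.2.2, mul_assoc]
        | inv u _ h =>
          rw [inv_eq_of_mul_eq_one_right h.1]
          exact h
      simpa [pow_two] using (key g.1 g.2).1
    obtain ⟨n, hn2⟩ := IsPGroup.iff_card.mp h2
    have hY2 : (2 : ℕ).Coprime (Nat.card Y) := (hY.coprime_dvd_right (by norm_num)).symm
    refine Cfsg.Agent.Coprime.le_of_centralizers_le (r := 2) (a := F.x) (b := F.y) F.xy (norm F.xx hn)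
      (norm F.yy hn') Nat.prime_two ?_ ?_ hY2 ?_ ?_ ?_
    · rw [pow_two, F.xx]; exact one_mem _
    · rw [pow_two, F.yy]; exact one_mem _
    · rw [hn2]; exact hY2.pow_left n
    · rintro g ⟨hg, hgx⟩
      have hgx' := mem_centralizer_singleton_iff.mp hgx
      exact memW hgx' (F.commute_y Y hY hn' hg hgx')
    · intro k
      rintro g ⟨hg, hgy⟩
      have hgy' := mem_centralizer_singleton_iff.mp hgy
      rcases Nat.even_or_odd k with ⟨l, rfl⟩ | ⟨l, rfl⟩
      · have e : F.x ^ (l + l) * F.y = F.y := by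
          rw [← two_mul, pow_mul, pow_two, F.xx, one_pow, one_mul]
        rw [e] at hgy'
        have hz' : g * F.z = F.z * g := F.rot.commute_y Y hY hz hg hgy'
        refine memW ?_ hgy'
        calc g * F.x = g * F.z * F.y := by
              rw [mul_assoc]; congr 1; unfold z; rw [mul_assoc, F.yy, mul_one]
          _ = F.z * (g * F.y) := by rw [hz', mul_assoc]
          _ = (F.z * F.y) * g := by rw [hgy', mul_assoc]
          _ = F.x * g := by unfold z; rw [mul_assoc F.x, F.yy, mul_one]
      · have e : F.x ^ (2 * l + 1) * F.y = F.z := by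
          rw [pow_succ, pow_mul, pow_two, F.xx, one_pow, one_mul]; rfl
        rw [e] at hgy'
        have hx' : g * F.x = F.x * g := by
          have := F.rot.rot.commute_y Y hY (by
            intro u hu
            have h1 := hn u hu
            have e' : F.rot.rot.y = F.x := by
              show F.y * F.z = F.x
              unfold z; rw [F.xy, ← mul_assoc, F.yy, one_mul]
            rwa [e']) hg hgy'
          have e' : F.rot.rot.y = F.x := by
            show F.y * F.z = F.x
            unfold z; rw [F.xy, ← mul_assoc, F.yy, one_mul]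
          rwa [e'] at this
        exact memW hx' (F.commute_y Y hY hn' hg hx')
  intro g hg
  exact ⟨mem_centralizer_singleton_iff.mp (hK hg).1, mem_centralizer_singleton_iff.mp (hK hg).2⟩

/-- A subgroup centralising the four-group is a two-group on the lines, so an element of order
prime to six in it fixes them. -/
theorem fix_lines {g : S} {n : ℕ} (hn : g ^ n = 1) (hcop : n.Coprime 6) (hx : g * F.x = F.x * g)
    (hy : g * F.y = F.y * g) : D.ρ g F.v1 = F.v1 ∧ D.ρ g F.v2 = F.v2 ∧ D.ρ g F.v3 = F.v3 := by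
  have rc : ∀ {u : S}, g * u = u * g → ∀ v, D.ρ u (D.ρ g v) = D.ρ g (D.ρ u v) := fun h v => by
    rw [← D.rho_mul, ← h, D.rho_mul]
  have small : ∀ (w : E), (∀ k : ZMod 3, ∃ k' : ZMod 3, D.ρ g (k • w) = k' • w) → D.ρ g w = w := by
    intro w hw
    have hW : Nat.card ↥(Submodule.span (ZMod 3) {w}) ≤ 9 := by
      have := card_span_pair_le w w
      rwa [Set.pair_eq_singleton] at this
    refine fix_of_small hn hcop (Submodule.span (ZMod 3) {w}) hW (fun u hu => ?_) w
      (Submodule.mem_span_singleton_self w)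
    obtain ⟨k, rfl⟩ := Submodule.mem_span_singleton.mp hu
    obtain ⟨k', hk'⟩ := hw k
    rw [hk']
    exact Submodule.smul_mem _ _ (Submodule.mem_span_singleton_self w)
  refine ⟨small _ fun k => ?_, small _ fun k => ?_, small _ fun k => ?_⟩
  · obtain ⟨h, h'⟩ := (F.in_smul k).2.1 F.v1_in
    exact F.in1_eq ⟨by rw [rc hx, h], by rw [rc hy, h', map_neg]⟩
  · obtain ⟨h, h'⟩ := (F.in_smul k).2.2.1 F.v2_in
    exact F.in2_eq ⟨by rw [rc hx, h, map_neg], by rw [rc hy, h']⟩
  · obtain ⟨h, h'⟩ := (F.in_smul k).2.2.2 F.v3_in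
    exact F.in3_eq ⟨by rw [rc hx, h, map_neg], by rw [rc hy, h', map_neg]⟩

/-- An element of order prime to six that centralises the four-group commutes with `b`. -/
theorem commute_b {g : S} {n : ℕ} (hn : g ^ n = 1) (hcop : n.Coprime 6) (hx : g * F.x = F.x * g)
    (hy : g * F.y = F.y * g) : g * D.b = D.b * g := by
  obtain ⟨h1, h2, h3⟩ := F.fix_lines hn hcop hx hy
  refine D.commute_of_rho fun v => ?_
  obtain ⟨a, i, j, k, ha, rfl⟩ := F.coords v
  have hga : F.In0 (D.ρ g a) := by
    refine ⟨?_, ?_⟩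
    · rw [← D.rho_mul, ← hx, D.rho_mul, ha.1]
    · rw [← D.rho_mul, ← hy, D.rho_mul, ha.2]
  simp only [map_add, map_smul, F.b_fix0 ha, F.b_fix0 hga, h1, h2, h3]
  rw [show D.ρ D.b F.v1 = F.v2 from rfl, show D.ρ D.b F.v2 = F.v3 from rfl, F.b_v3, h1, h2, h3]

end Four

end Cfsg.Agent.CubicBlock
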