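import Cfsg.Agent.CubicBlock.Rigid

/-!
# The subgroup generated by commutators with the cubic element
-/

set_option autoImplicit false

namespace Cfsg.Agent.CubicBlock

open Subgroup

variable {S E : Type*} [Group S] [AddCommGroup E] [Module (ZMod 3) E]

/-- A subgroup `R` normalised by `b` with `R = [R, b]`. -/
structure Setup (D : Data S E) where
  R : Subgroup S
  bR : ∀ r ∈ R, D.b * r * D.b⁻¹ ∈ R
  gen : ∀ H : Subgroup S, (∀ r ∈ R, r * D.b * r⁻¹ * D.b⁻¹ ∈ H) → R ≤ H

namespace Data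

variable (D : Data S E)

theorem N_cube (v : E) : D.N (D.N (D.N v)) = 0 := by
  have h3 : D.ρ D.b (D.ρ D.b (D.ρ D.b v)) = v := by
    rw [← D.rho_mul, ← D.rho_mul, show D.b * D.b * D.b = D.b ^ 3 by rw [pow_succ, pow_two],
      D.b3, D.rho_one]
  have t := three_smul_eq_zero (D.ρ D.b v)
  have t' := three_smul_eq_zero (D.ρ D.b (D.ρ D.b v))
  simp only [Data.N_apply, map_sub]
  rw [h3]
  calc _ = (D.ρ D.b v + D.ρ D.b v + D.ρ D.b v) -
        (D.ρ D.b (D.ρ D.b v) + D.ρ D.b (D.ρ D.b v) + D.ρ D.b (D.ρ D.b v)) := by abel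
    _ = 0 := by rw [t, t', sub_zero]

theorem N_comm {g : S} (h : g * D.b = D.b * g) (v : E) : D.ρ g (D.N v) = D.N (D.ρ g v) := by
  rw [Data.N_apply, Data.N_apply, map_sub, ← D.rho_mul, h, D.rho_mul]

/-- Three independent vectors cannot lie in the image of `b - 1`. -/
theorem no_three [Finite E] (u v w : E) (h : ∀ i j k : ZMod 3,
    i • D.N u + j • D.N v + k • D.N w = 0 → i = 0 ∧ j = 0 ∧ k = 0) : False := by
  let f : ZMod 3 × ZMod 3 × ZMod 3 → ↥(LinearMap.range D.N) := fun t =>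
    ⟨D.N (t.1 • u + t.2.1 • v + t.2.2 • w), LinearMap.mem_range_self _ _⟩
  have finj : Function.Injective f := by
    rintro ⟨i, j, k⟩ ⟨i', j', k'⟩ e
    have e' := congrArg Subtype.val e
    simp only [f, map_add, map_smul] at e'
    have : (i - i') • D.N u + (j - j') • D.N v + (k - k') • D.N w = 0 := by
      rw [← sub_eq_zero] at e'
      rw [← e']; simp only [sub_smul]; abel
    obtain ⟨h1, h2, h3⟩ := h _ _ _ this
    rw [sub_eq_zero.mp h1, sub_eq_zero.mp h2, sub_eq_zero.mp h3]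
  have := (Nat.card_le_card_of_injective f finj).trans D.card_range_le
  rw [Nat.card_prod, Nat.card_prod, Nat.card_zmod] at this
  omega

end Data

namespace Setup

variable {D : Data S E} (X : Setup D)

theorem fix_of_b_fix (U : Set E) (hU : ∀ r ∈ X.R, ∀ v ∈ U, D.ρ r v ∈ U)
    (hb : ∀ v ∈ U, D.ρ D.b v = v) : X.R ≤ fixer D U :=
  X.gen _ fun r hr v hv => D.b_fix_of_fix_conj (hb v hv) (hb _ (hU _ (X.R.inv_mem hr) v hv))

theorem commute_of_b_fix (H : Set S) (hH : ∀ r ∈ X.R, ∀ h ∈ H, r * h * r⁻¹ ∈ H)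
    (hb : ∀ h ∈ H, D.b * h = h * D.b) : X.R ≤ centralizer H := by
  refine X.gen _ fun r hr => mem_centralizer_iff.mpr fun h hh => ?_
  have h1 := hb h hh
  have h2 := hb _ (hH _ (X.R.inv_mem hr) h hh)
  rw [inv_inv] at h2
  have hb1 : Commute h (r * D.b * r⁻¹) := by
    show h * (r * D.b * r⁻¹) = r * D.b * r⁻¹ * h
    calc h * (r * D.b * r⁻¹) = r * ((r⁻¹ * h * r) * D.b) * r⁻¹ := by group
      _ = r * (D.b * (r⁻¹ * h * r)) * r⁻¹ := by rw [h2]
      _ = r * D.b * r⁻¹ * h := by group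
  have hb2 : Commute h D.b⁻¹ := (show Commute h D.b from h1.symm).inv_right
  exact (hb1.mul_right hb2).eq

theorem hom_trivial {A : Type*} [CommGroup A] (f : ↥X.R →* A)
    (hf : ∀ r : ↥X.R, f ⟨D.b * r * D.b⁻¹, X.bR _ r.2⟩ = f r) : ∀ r, f r = 1 := by
  intro r
  have hle : X.R ≤ f.ker.map X.R.subtype := by
    refine X.gen _ fun s hs => ?_
    have hc : s * D.b * s⁻¹ * D.b⁻¹ ∈ X.R := by
      have := X.R.mul_mem hs (X.bR _ (X.R.inv_mem hs))
      simpa [mul_assoc] using this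
    refine ⟨⟨_, hc⟩, ?_, rfl⟩
    rw [SetLike.mem_coe, MonoidHom.mem_ker]
    have e : (⟨_, hc⟩ : X.R) = ⟨s, hs⟩ * ⟨D.b * s⁻¹ * D.b⁻¹, X.bR _ (X.R.inv_mem hs)⟩ :=
      Subtype.ext (by simp [mul_assoc])
    rw [e, map_mul, show (⟨D.b * s⁻¹ * D.b⁻¹, X.bR _ (X.R.inv_mem hs)⟩ : X.R) =
      ⟨D.b * ((⟨s, hs⟩⁻¹ : X.R) : S) * D.b⁻¹, X.bR _ (SetLike.coe_mem _)⟩ from rfl, hf, map_inv,
      mul_inv_cancel]
  obtain ⟨r', hr', e⟩ := hle r.2
  rw [Subtype.ext e] at hr'
  exact hr'

variable [Finite E]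

/-- A central involution of `⟨R, b⟩` in `R`: `R` is trivial on its fixed points. -/
theorem fix_pos {z : S} (hz1 : z ≠ 1) (hzz : z * z = 1) (hzb : z * D.b = D.b * z)
    (hzR : ∀ r ∈ X.R, z * r = r * z) (hz : z ∈ X.R) :
    ∀ r ∈ X.R, ∀ v, D.ρ z v = v → D.ρ r v = v := by
  have hinv : ∀ v, D.ρ z (D.ρ z v) = v := fun v => by rw [← D.rho_mul, hzz, D.rho_one]
  have hN := D.N_comm hzb
  have hUpos : ∀ r ∈ X.R, ∀ v ∈ {v | D.ρ z v = v}, D.ρ r v ∈ {v | D.ρ z v = v} := fun r hr v hv => by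
    show D.ρ z (D.ρ r v) = D.ρ r v
    rw [← D.rho_mul, hzR r hr, D.rho_mul, hv]
  have hUneg : ∀ r ∈ X.R, ∀ v ∈ {v | D.ρ z v = -v}, D.ρ r v ∈ {v | D.ρ z v = -v} := fun r hr v hv => by
    show D.ρ z (D.ρ r v) = -D.ρ r v
    rw [← D.rho_mul, hzR r hr, D.rho_mul, hv, map_neg]
  -- the two eigenspaces are independent
  have indep : ∀ a c : E, D.ρ z a = a → D.ρ z c = -c → a + c = 0 → a = 0 ∧ c = 0 := by
    intro a c ha hc h
    have h' := congrArg (D.ρ z) h
    rw [map_add, ha, hc, map_zero] at h'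
    have : a = 0 := eq_zero_of_eq_neg (by
      calc a = -c := eq_neg_of_add_eq_zero_left h
        _ = -a := eq_neg_of_add_eq_zero_right h')
    exact ⟨this, by rwa [this, zero_add] at h⟩
  have sep : ∀ u w : E, D.ρ z u = u → D.ρ z w = -w → D.N (D.N u) ≠ 0 → D.N w ≠ 0 → False := by
    intro u w hu hw h1 h2
    refine D.no_three u (D.N u) w fun i j k h => ?_
    obtain ⟨ha, hc⟩ := indep (i • D.N u + j • D.N (D.N u)) (k • D.N w)
      (by simp only [map_add, map_smul, hN, hu])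
      (by rw [map_smul, hN, hw, map_neg, smul_neg]) h
    have hi : i = 0 := by
      have := congrArg D.N ha
      rw [map_add, map_smul, map_smul, D.N_cube, smul_zero, add_zero, map_zero, smul_eq_zero] at this
      exact this.resolve_right h1
    rw [hi, zero_smul, zero_add, smul_eq_zero] at ha
    exact ⟨hi, ha.resolve_right h1, (smul_eq_zero.mp hc).resolve_right h2⟩
  have sep' : ∀ u w : E, D.ρ z u = -u → D.ρ z w = w → D.N (D.N u) ≠ 0 → D.N w ≠ 0 → False := by
    intro u w hu hw h1 h2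
    refine D.no_three u (D.N u) w fun i j k h => ?_
    obtain ⟨hc, ha⟩ := indep (k • D.N w) (i • D.N u + j • D.N (D.N u))
      (by rw [map_smul, hN, hw])
      (by simp only [map_add, map_smul, hN, hu, map_neg, smul_neg, neg_add]) (by rw [← h]; abel)
    have hi : i = 0 := by
      have := congrArg D.N ha
      rw [map_add, map_smul, map_smul, D.N_cube, smul_zero, add_zero, map_zero, smul_eq_zero] at this
      exact this.resolve_right h1
    rw [hi, zero_smul, zero_add, smul_eq_zero] at ha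
    exact ⟨hi, ha.resolve_right h1, (smul_eq_zero.mp hc).resolve_right h2⟩
  have split : ∀ v : E, ∃ a c, D.ρ z a = a ∧ D.ρ z c = -c ∧ v = a + c := fun v =>
    ⟨-(v + D.ρ z v), -(v - D.ρ z v), by rw [map_neg, map_add, hinv]; abel,
      by rw [map_neg, map_sub, hinv]; abel, by
        have := three_smul_eq_zero v
        calc v = v - (v + v + v) := by rw [this, sub_zero]
          _ = _ := by abel⟩
  obtain ⟨v, hv⟩ := D.cubic
  change D.N (D.N v) ≠ 0 at hv
  obtain ⟨a, c, ha, hc, rfl⟩ := split v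
  by_cases hc2 : D.N (D.N c) = 0
  · -- the cubic part is in the fixed space, so `z = 1`
    have ha2 : D.N (D.N a) ≠ 0 := fun e => hv (by rw [map_add, map_add, e, hc2, add_zero])
    have hb : ∀ w ∈ {v | D.ρ z v = -v}, D.ρ D.b w = w := fun w hw => by
      by_contra hne
      exact sep a w ha hw ha2 (sub_ne_zero.mpr hne)
    refine absurd (D.eq_one_of_fix fun w => ?_) hz1
    obtain ⟨a', c', ha', hc', rfl⟩ := split w
    have h0 : c' = 0 := eq_zero_of_eq_neg (((X.fix_of_b_fix _ hUneg hb) hz c' hc').symm.trans hc')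
    rw [h0, add_zero, ha']
  · have hb : ∀ w ∈ {v | D.ρ z v = v}, D.ρ D.b w = w := fun w hw => by
      by_contra hne
      exact sep' c w hc hw hc2 (sub_ne_zero.mpr hne)
    intro r hr w hw
    exact (X.fix_of_b_fix _ hUpos hb) hr w hw

/-- There is at most one central involution of `⟨R, b⟩` in `R`. -/
theorem invol_unique {z w : S} (hz1 : z ≠ 1) (hzz : z * z = 1) (hzb : z * D.b = D.b * z)
    (hzR : ∀ r ∈ X.R, z * r = r * z) (hz : z ∈ X.R) (hw1 : w ≠ 1) (hww : w * w = 1)
    (hwb : w * D.b = D.b * w) (hwR : ∀ r ∈ X.R, w * r = r * w) (hw : w ∈ X.R) : z = w := by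
  have fz := X.fix_pos hz1 hzz hzb hzR hz w hw
  have fw := X.fix_pos hw1 hww hwb hwR hw z hz
  apply D.inj
  ext v
  have hzz' : ∀ v, D.ρ z (D.ρ z v) = v := fun v => by rw [← D.rho_mul, hzz, D.rho_one]
  have hww' : ∀ v, D.ρ w (D.ρ w v) = v := fun v => by rw [← D.rho_mul, hww, D.rho_one]
  have hc : D.ρ z (D.ρ w v) = D.ρ w (D.ρ z v) := by rw [← D.rho_mul, hzR w hw, D.rho_mul]
  have h1 := fz (v + D.ρ z v) (by rw [map_add, hzz']; abel)
  have h2 := fw (v + D.ρ w v) (by rw [map_add, hww']; abel)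
  rw [map_add, ← hc] at h1
  rw [map_add] at h2
  have : D.ρ z v - D.ρ w v = -(D.ρ z v - D.ρ w v) := by
    calc D.ρ z v - D.ρ w v = (v + D.ρ z v) - (v + D.ρ w v) := by abel
      _ = (D.ρ w v + D.ρ z (D.ρ w v)) - (D.ρ z v + D.ρ z (D.ρ w v)) := by rw [h1, h2]
      _ = _ := by abel
  exact sub_eq_zero.mp (eq_zero_of_eq_neg this)

/-- No element commuting with `b` squares to the central involution. -/
theorem no_order_four {z j : S} (hj1 : j ≠ 1) (hjj : j * j = 1) (hjb : j * D.b = D.b * j)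
    (hjR : ∀ r ∈ X.R, j * r = r * j) (hj : j ∈ X.R) (hzb : z * D.b = D.b * z) : z * z ≠ j := by
  intro hsq
  have hN := D.N_comm hzb
  have hjN := D.N_comm hjb
  have hb : ∀ w, D.ρ j w = w → ∀ r ∈ X.R, D.ρ r w = w := fun w hw r hr =>
    X.fix_pos hj1 hjj hjb hjR hj r hr w hw
  obtain ⟨v, hv⟩ := D.cubic
  change D.N (D.N v) ≠ 0 at hv
  have hinv : ∀ v, D.ρ j (D.ρ j v) = v := fun v => by rw [← D.rho_mul, hjj, D.rho_one]
  -- the cubic part lies in the negative eigenspace
  obtain ⟨m, hm⟩ : ∃ m, m = D.N (D.N v) := ⟨_, rfl⟩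
  have hjm : D.ρ j m = -m := by
    by_contra hne
    -- `a` is the positive component of `v`
    obtain ⟨a, ha⟩ : ∃ a, a = v + D.ρ j v := ⟨_, rfl⟩
    have haj : D.ρ j a = a := by rw [ha, map_add, hinv]; abel
    have hNNa : D.N (D.N a) ≠ 0 := by
      rw [ha, map_add, map_add, ← hjN, ← hjN, ← hm]
      intro h
      exact hne (eq_neg_of_add_eq_zero_right h)
    have hc : ∀ w, D.ρ j w = -w → D.N w = 0 := fun w hw => by
      by_contra hw2
      refine D.no_three a (D.N a) w fun i k l h => ?_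
      have h' := congrArg (D.ρ j) h
      simp only [map_add, map_smul, map_zero, hjN, haj, hw, map_neg, smul_neg] at h'
      have hl : l • D.N w = 0 := eq_zero_of_eq_neg (by
        calc l • D.N w = (i • D.N a + k • D.N (D.N a) + l • D.N w) - (i • D.N a + k • D.N (D.N a)) := by
              abel
          _ = (i • D.N a + k • D.N (D.N a) + -(l • D.N w)) - (i • D.N a + k • D.N (D.N a)) := by
              rw [h, h']
          _ = -(l • D.N w) := by abel)
      rw [hl, add_zero] at h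
      have hi : i = 0 := by
        have := congrArg D.N h
        rw [map_add, map_smul, map_smul, D.N_cube, smul_zero, add_zero, map_zero, smul_eq_zero] at this
        exact this.resolve_right hNNa
      rw [hi, zero_smul, zero_add, smul_eq_zero] at h
      exact ⟨hi, h.resolve_right hNNa, (smul_eq_zero.mp hl).resolve_right hw2⟩
    have : ∀ w ∈ {w | D.ρ j w = -w}, D.ρ D.b w = w := fun w hw => sub_eq_zero.mp (hc w hw)
    have hU : ∀ r ∈ X.R, ∀ w ∈ {w | D.ρ j w = -w}, D.ρ r w ∈ {w | D.ρ j w = -w} := fun r hr w hw => by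
      show D.ρ j (D.ρ r w) = -D.ρ r w
      rw [← D.rho_mul, hjR r hr, D.rho_mul, hw, map_neg]
    refine hj1 (D.eq_one_of_fix fun w => ?_)
    have e := (X.fix_of_b_fix _ hU this) hj (w - D.ρ j w) (by
      show D.ρ j (w - D.ρ j w) = -(w - D.ρ j w)
      rw [map_sub, hinv]; abel)
    rw [map_sub, hinv] at e
    exact sub_eq_zero.mp (eq_zero_of_eq_neg (by
      calc D.ρ j w - w = w - D.ρ j w := e
        _ = -(D.ρ j w - w) := by abel))
  refine D.no_three v (D.N v) (D.ρ z (D.N v)) fun i k l h => ?_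
  rw [← hN, ← hm] at h
  have hi : i = 0 := by
    have := congrArg D.N h
    rw [map_add, map_add, map_smul, map_smul, map_smul, ← hm, ← hN, hm, D.N_cube, map_zero,
      smul_zero, smul_zero, add_zero, add_zero, map_zero, smul_eq_zero] at this
    exact this.resolve_right hv
  rw [hi, zero_smul, zero_add] at h
  have hm0 : m ≠ 0 := hm ▸ hv
  have hzm : D.ρ z (D.ρ z m) = -m := by rw [← D.rho_mul, hsq, hjm]
  have h2 : k • D.ρ z m + l • -m = 0 := by
    have := congrArg (D.ρ z) h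
    rwa [map_add, map_smul, map_smul, hzm, map_zero] at this
  have h4 : (k * k + l * l) • m = 0 := by
    calc (k * k + l * l) • m = k • (k • m + l • D.ρ z m) - l • (k • D.ρ z m + l • -m) := by
          simp only [smul_add, smul_smul, smul_neg, add_smul, mul_comm l k]; abel
      _ = 0 := by rw [h, h2, smul_zero, smul_zero, sub_zero]
  have hkl := (smul_eq_zero.mp h4).resolve_right hm0
  obtain ⟨hk, hl⟩ := (by decide : ∀ k l : ZMod 3, k * k + l * l = 0 → k = 0 ∧ l = 0) k l hkl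
  exact ⟨hi, hk, hl⟩

end Setup

end Cfsg.Agent.CubicBlock
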