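import Cfsg.Agent.CubicBlock.Lines
import Cfsg.Agent.Coprime.Basic
import Cfsg.Agent.Core.PCore
import Cfsg.Agent.Core.Fitting
import Cfsg.Agent.Coprime.PCoreTools
import Cfsg.Agent.Fusion.SolvablePSolvable
import Cfsg.Agent.Fusion.PGroup
import Cfsg.Agent.Core.FaithfulTI

/-!
# The conclusion for `R = [R, b]`

Either an abelian normal two-subgroup is moved by `b` (the case of lines) or the two-core is of
symplectic type, the negative space of its involution has at most `81` vectors and `R` is a two-group.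
-/

set_option autoImplicit false

namespace Cfsg.Agent.CubicBlock

open Subgroup
open scoped commutatorElement

/-- The cardinality of the general linear group of dimension at most four over three elements. -/
theorem card_gl_dvd {n : ℕ} (hn : n ≤ 4) :
    Nat.card (GL (Fin n) (ZMod 3)) ∣ 2 ^ 9 * 3 ^ 6 * 5 * 13 := by
  rw [Matrix.card_GL_field, ZMod.card]
  interval_cases n <;> simp [Fin.prod_univ_succ, Fin.sum_univ_succ]

variable {S E : Type*} [Group S] [AddCommGroup E] [Module (ZMod 3) E] {D : Data S E}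

/-- An element is the `b`-commutator value used for the four-groups. -/
theorem four_of_product {x : S} (hx1 : x ≠ 1) (hne : D.b * x * D.b⁻¹ ≠ x) (hxx : x * x = 1)
    (hprod : D.b * (D.b * x * D.b⁻¹) * D.b⁻¹ = x * (D.b * x * D.b⁻¹)) :
    ∃ F : Four D, F.x = x ∧ F.y = D.b * x * D.b⁻¹ := by
  have conj_sq : ∀ {u : S}, u * u = 1 → (D.b * u * D.b⁻¹) * (D.b * u * D.b⁻¹) = 1 := fun {u} h => by
    calc D.b * u * D.b⁻¹ * (D.b * u * D.b⁻¹) = D.b * (u * u) * D.b⁻¹ := by group
      _ = 1 := by rw [h]; group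
  obtain ⟨y, hy⟩ : ∃ y, y = D.b * x * D.b⁻¹ := ⟨_, rfl⟩
  have hyy : y * y = 1 := hy ▸ conj_sq hxx
  have hxy : x * y * (x * y) = 1 := by
    have := conj_sq hyy
    rw [hy] at this ⊢
    rwa [hprod] at this
  have comm : x * y = y * x := by
    have h := inv_eq_of_mul_eq_one_right hxy
    rw [mul_inv_rev, inv_eq_of_mul_eq_one_right hxx, inv_eq_of_mul_eq_one_right hyy] at h
    exact h.symm
  exact ⟨⟨x, y, hx1, hxx, hyy, comm, hy.symm, by rw [hy]; exact hprod⟩, rfl, hy⟩

/-- A four-group inside an abelian subgroup of exponent two moved by `b`. -/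
theorem four_in_abelian (A : Subgroup S) (hA : ∀ a ∈ A, a * a = 1)
    (hb : ∀ a ∈ A, D.b * a * D.b⁻¹ ∈ A) (h : ∃ a ∈ A, D.b * a ≠ a * D.b) :
    ∃ F : Four D, F.x ∈ A ∧ F.y ∈ A := by
  have comm : ∀ a ∈ A, ∀ c ∈ A, a * c = c * a := fun a ha c hc => by
    have h := inv_eq_of_mul_eq_one_right (hA _ (A.mul_mem ha hc))
    rw [mul_inv_rev, inv_eq_of_mul_eq_one_right (hA a ha), inv_eq_of_mul_eq_one_right (hA c hc)] at h
    exact h.symm
  obtain ⟨a, ha, hne⟩ := h
  obtain ⟨a', ha'⟩ : ∃ a', a' = D.b * a * D.b⁻¹ := ⟨_, rfl⟩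
  obtain ⟨a'', ha''⟩ : ∃ a'', a'' = D.b * a' * D.b⁻¹ := ⟨_, rfl⟩
  have h1 : a' ∈ A := ha' ▸ hb a ha
  have h2 : a'' ∈ A := ha'' ▸ hb a' h1
  have h3 : D.b * a'' * D.b⁻¹ = a := by
    have e : D.b * (D.b * (D.b * a * D.b⁻¹) * D.b⁻¹) * D.b⁻¹ = D.b ^ 3 * a * (D.b ^ 3)⁻¹ := by
      rw [pow_succ, pow_two]; group
    rw [ha'', ha', e, D.b3, one_mul, inv_one, mul_one]
  have hconj : D.b * (a * a') * D.b⁻¹ = a' * a'' := by rw [ha'', ha']; group
  obtain ⟨F, hx, hy⟩ := four_of_product (D := D) (x := a * a') (fun h => hne (by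
      have e : a' = a := by
        rw [← mul_eq_one_iff_eq_inv'.mp h |>.symm, inv_eq_of_mul_eq_one_right (hA a ha)]
      rw [ha'] at e
      exact mul_inv_eq_iff_eq_mul.mp e)) (fun h => hne (by
      rw [hconj] at h
      have e : a'' = a := mul_left_cancel (h.trans (comm a ha a' h1))
      rw [e] at h3
      exact mul_inv_eq_iff_eq_mul.mp h3)) (hA _ (A.mul_mem ha h1)) (by
      rw [hconj, show D.b * (a' * a'') * D.b⁻¹ = (D.b * a' * D.b⁻¹) * (D.b * a'' * D.b⁻¹) by group,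
        ← ha'', h3]
      calc a'' * a = a * a'' := comm _ h2 _ ha
        _ = a * (a' * a') * a'' := by rw [hA a' h1, mul_one]
        _ = a * a' * (a' * a'') := by simp [mul_assoc])
  refine ⟨F, hx ▸ A.mul_mem ha h1, ?_⟩
  rw [hy, hconj]
  exact A.mul_mem h1 h2

namespace Setup

variable (X : Setup D)

theorem le_of_mod {H : Subgroup S} (h : ∀ r ∈ X.R, r * D.b * r⁻¹ * D.b⁻¹ ∈ H) : X.R ≤ H := X.gen H h

theorem normalizes_of_char [Finite S] (C : Subgroup ↥X.R) (hC : C.Characteristic) :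
    ∀ a ∈ C.map X.R.subtype, D.b * a * D.b⁻¹ ∈ C.map X.R.subtype := by
  have h := Coprime.le_normalizer_map_of_characteristic (A := zpowers D.b) (K := X.R)
    (zpowers_le.mpr (LineCase.b_normalizes X)) C hC
  exact fun a ha => (mem_normalizer_iff.mp (h (mem_zpowers D.b)) a).mp ha

theorem normal_map (C : Subgroup ↥X.R) [hC : C.Normal] :
    ∀ r ∈ X.R, ∀ a ∈ C.map X.R.subtype, r * a * r⁻¹ ∈ C.map X.R.subtype := by
  rintro r hr _ ⟨a, ha, rfl⟩
  exact ⟨_, hC.conj_mem a ha ⟨r, hr⟩, rfl⟩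

variable [Finite S] [Finite E]

theorem coprime_six {Y : Subgroup S} (hY : Y ≤ X.R) (h2 : ¬ 2 ∣ Nat.card Y)
    (hX : ¬ 3 ∣ Nat.card X.R) : (Nat.card Y).Coprime 6 := by
  rw [show (6 : ℕ) = 2 * 3 from rfl]
  exact Nat.Coprime.mul_right ((Nat.Prime.coprime_iff_not_dvd Nat.prime_two).mpr h2).symm
    (((Nat.Prime.coprime_iff_not_dvd Nat.prime_three).mpr hX).symm.coprime_dvd_left
      (Subgroup.card_dvd_of_le hY))

set_option maxHeartbeats 4000000 in
/-- The main dichotomy. -/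
theorem conclusion [Group.IsSolvable S] (F : Four D) (hx : F.x ∈ X.R) (hy : F.y ∈ X.R)
    (hX : ¬ 3 ∣ Nat.card X.R) :
    ∃ F' : Four D, F'.x ∈ X.R ∧ F'.y ∈ X.R ∧
      ((∀ r ∈ X.R, r = 1 ∨ r = F'.x ∨ r = F'.y ∨ r = F'.z) ∨ ∃ j, ExtraCase X F' j) := by
  have h2p : Fact (Nat.Prime 2) := ⟨Nat.prime_two⟩
  obtain ⟨T, hT⟩ : ∃ T : Subgroup S, T = (Cfsg.pCore 2 ↥X.R).map X.R.subtype := ⟨_, rfl⟩
  obtain ⟨O, hO⟩ : ∃ O : Subgroup S, O = (Cfsg.pPrimeCore 2 ↥X.R).map X.R.subtype := ⟨_, rfl⟩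
  have hTR : T ≤ X.R := hT ▸ map_subtype_le _
  have hOR : O ≤ X.R := hO ▸ map_subtype_le _
  have hTp : IsPGroup 2 T := by
    rw [hT]; exact (Core.pCore_isPGroup (p := 2) (G := ↥X.R)).map _
  have hchT : (Cfsg.pCore 2 ↥X.R).Characteristic :=
    Subgroup.characteristic_iff_map_eq.mpr fun φ => Core.map_pCore φ
  have hchO : (Cfsg.pPrimeCore 2 ↥X.R).Characteristic :=
    Subgroup.characteristic_iff_map_eq.mpr fun φ => Core.map_pPrimeCore φ
  have hTn : ∀ r ∈ X.R, ∀ a ∈ T, r * a * r⁻¹ ∈ T := hT ▸ X.normal_map _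
  have hOn : ∀ r ∈ X.R, ∀ a ∈ O, r * a * r⁻¹ ∈ O := hO ▸ X.normal_map _
  have hTb : ∀ a ∈ T, D.b * a * D.b⁻¹ ∈ T := hT ▸ X.normalizes_of_char _ hchT
  -- the odd core commutes with `b`
  have hOodd : ¬ 2 ∣ Nat.card O := by
    rw [hO, Subgroup.card_map_of_injective X.R.subtype_injective]
    exact Core.not_dvd_card_pPrimeCore
  have hO6 := X.coprime_six hOR hOodd hX
  have hOb : ∀ h ∈ (O : Set S), D.b * h = h * D.b := by
    intro h hh
    have hcc := F.centralizes O hO6 (fun g hg => hOn _ hx g hg) (fun g hg => hOn _ hy g hg) h hh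
    have hp : h ^ Nat.card O = 1 := by
      have := pow_card_eq_one' (G := O) (x := ⟨h, hh⟩)
      exact congrArg Subtype.val this
    exact (F.commute_b hp hO6 hcc.1 hcc.2).symm
  -- the case of a moved abelian normal two-subgroup
  by_cases hmv : ∃ A : Subgroup S, A ≤ T ∧ (∀ a ∈ A, ∀ c ∈ A, a * c = c * a) ∧
      (∀ r ∈ X.R, ∀ a ∈ A, r * a * r⁻¹ ∈ A) ∧ (∀ a ∈ A, D.b * a * D.b⁻¹ ∈ A) ∧
      ∃ a ∈ A, D.b * a ≠ a * D.b
  · obtain ⟨A, hAT, hcomm, hAn, hAb, hmove⟩ := hmv
    let A₁ : Subgroup S :=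
      { carrier := {a | a ∈ A ∧ a * a = 1}
        mul_mem' := fun {a c} ha hc => ⟨A.mul_mem ha.1 hc.1, by
          calc a * c * (a * c) = a * (c * a) * c := by group
            _ = (a * a) * (c * c) := by rw [hcomm c hc.1 a ha.1]; group
            _ = 1 := by rw [ha.2, hc.2, mul_one]⟩
        one_mem' := ⟨A.one_mem, mul_one 1⟩
        inv_mem' := fun {a} ha => ⟨A.inv_mem ha.1, by
          rw [inv_eq_of_mul_eq_one_right ha.2]; exact ha.2⟩ }
    have hA₁n : ∀ r ∈ X.R, ∀ a ∈ A₁, r * a * r⁻¹ ∈ A₁ := fun r hr a ha => ⟨hAn r hr a ha.1, by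
      calc r * a * r⁻¹ * (r * a * r⁻¹) = r * (a * a) * r⁻¹ := by group
        _ = 1 := by rw [ha.2]; group⟩
    have hA₁b : ∀ a ∈ A₁, D.b * a * D.b⁻¹ ∈ A₁ := fun a ha => ⟨hAb a ha.1, by
      calc D.b * a * D.b⁻¹ * (D.b * a * D.b⁻¹) = D.b * (a * a) * D.b⁻¹ := by group
        _ = 1 := by rw [ha.2]; group⟩
    have hmove₁ : ∃ a ∈ A₁, D.b * a ≠ a * D.b := by
      by_contra hno
      push Not at hno
      obtain ⟨a, ha, hne⟩ := hmove
      have : IsMulCommutative A := ⟨⟨fun u v => Subtype.ext (hcomm u u.2 v v.2)⟩⟩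
      have hcop : (Nat.card ↥(zpowers D.b)).Coprime (Nat.card A) := by
        have h1 : Nat.card ↥(zpowers D.b) ∣ 3 := by
          rw [Nat.card_zpowers]; exact orderOf_dvd_of_pow_eq_one D.b3
        refine (((Nat.Prime.coprime_iff_not_dvd Nat.prime_three).mpr ?_).coprime_dvd_left h1)
        exact fun h => hX (h.trans (Subgroup.card_dvd_of_le (hAT.trans hTR)))
      have hnorm : zpowers D.b ≤ normalizer (A : Set S) := zpowers_le.mpr (by
        rw [mem_normalizer_iff]
        refine fun u => ⟨hAb u, fun hu => ?_⟩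
        have := hAb _ (hAb _ hu)
        have e : D.b * (D.b * (D.b * u * D.b⁻¹) * D.b⁻¹) * D.b⁻¹ = D.b ^ 3 * u * (D.b ^ 3)⁻¹ := by
          rw [pow_succ, pow_two]; group
        rwa [e, D.b3, one_mul, inv_one, mul_one] at this)
      refine hne ((mem_centralizer_iff.mp (Coprime.le_centralizer_of_fixes_prime_order hnorm hcop
        (fun v hv hord c hc => ?_) (mem_zpowers D.b)) a ha).symm)
      have hv2 : v * v = 1 := by
        obtain ⟨k, hk⟩ := hTp.exists_orderOf_eq_pow ⟨v, hAT hv⟩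
        rw [Subgroup.orderOf_mk] at hk
        rw [hk] at hord
        have : k = 1 := by
          rcases Nat.lt_or_ge k 2 with h | h
          · interval_cases k
            · exact absurd hord (by norm_num)
            · rfl
          · exact absurd hord (Nat.Prime.not_prime_pow h)
        rw [this, pow_one] at hk
        rw [← pow_two, ← hk, pow_orderOf_eq_one]
      obtain ⟨k, rfl⟩ := mem_zpowers_iff.mp hc
      exact ((show Commute D.b v from hno v ⟨hv, hv2⟩).zpow_left k).eq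
    obtain ⟨F', h1, h2⟩ := four_in_abelian A₁ (fun a ha => ha.2) hA₁b hmove₁
    have HL : LineCase X F' A₁ := ⟨fun a ha => hTR (hAT ha.1),
      fun a ha c hc => hcomm a ha.1 c hc.1, hA₁n, hA₁b, h1, h2, hX⟩
    exact ⟨F', HL.le h1, HL.le h2, HL.conclusion⟩
  -- otherwise every such subgroup is central
  push Not at hmv
  have central : ∀ A : Subgroup S, A ≤ T → (∀ a ∈ A, ∀ c ∈ A, a * c = c * a) →
      (∀ r ∈ X.R, ∀ a ∈ A, r * a * r⁻¹ ∈ A) → (∀ a ∈ A, D.b * a * D.b⁻¹ ∈ A) →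
      ∀ a ∈ A, (a * D.b = D.b * a ∧ ∀ r ∈ X.R, a * r = r * a) := by
    intro A h1 h2 h3 h4 a ha
    refine ⟨(hmv A h1 h2 h3 h4 a ha).symm, fun r hr => ?_⟩
    exact mem_centralizer_iff.mp
      (X.commute_of_b_fix (A : Set S) h3 (fun c hc => hmv A h1 h2 h3 h4 c hc) hr) a ha
  have ord4 : ∀ a ∈ T, a * D.b = D.b * a → (∀ r ∈ X.R, a * r = r * a) → a * a = 1 := by
    intro a ha hab haR
    obtain ⟨k, hk⟩ := hTp.exists_orderOf_eq_pow ⟨a, ha⟩
    rw [Subgroup.orderOf_mk] at hk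
    by_contra hne
    have hk2 : 2 ≤ k := by
      by_contra h
      refine hne ?_
      have hd : orderOf a ∣ 2 := by
        rw [hk]
        exact (pow_dvd_pow 2 (show k ≤ 1 by omega)).trans (by norm_num)
      rw [← pow_two]
      exact orderOf_dvd_iff_pow_eq_one.mp hd
    obtain ⟨l, rfl⟩ := Nat.exists_eq_add_of_le hk2
    obtain ⟨z, hz⟩ : ∃ z, z = a ^ 2 ^ l := ⟨_, rfl⟩
    have ez : z * z = a ^ 2 ^ (l + 1) := by rw [hz, ← pow_add, pow_succ, mul_two]
    have hj1 : z * z ≠ 1 := by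
      rw [ez]
      intro h
      have := Nat.le_of_dvd (pow_pos (by norm_num) _) (hk ▸ orderOf_dvd_of_pow_eq_one h)
      have := (Nat.pow_lt_pow_iff_right (show 1 < 2 by norm_num)).mpr (show l + 1 < 2 + l by omega)
      omega
    have hjj : (z * z) * (z * z) = 1 := by
      rw [ez, ← pow_add, ← two_mul, ← pow_succ', show l + 1 + 1 = 2 + l by omega, ← hk, pow_orderOf_eq_one]
    have hzb : Commute z D.b := hz ▸ (show Commute a D.b from hab).pow_left _
    have hzR : ∀ r ∈ X.R, Commute z r := fun r hr => hz ▸ (show Commute a r from haR r hr).pow_left _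
    have hzmem : z ∈ X.R := hz ▸ X.R.pow_mem (hTR ha) _
    exact X.no_order_four hj1 hjj (hzb.mul_left hzb).eq (fun r hr => ((hzR r hr).mul_left (hzR r hr)).eq)
      (X.R.mul_mem hzmem hzmem) hzb.eq rfl
  -- the elements of abelian normal subgroups
  have tiny : ∀ a ∈ T, a * D.b = D.b * a → (∀ r ∈ X.R, a * r = r * a) → a ≠ 1 →
      ∀ c ∈ T, c * D.b = D.b * c → (∀ r ∈ X.R, c * r = r * c) → c = 1 ∨ c = a := by
    intro a ha h1 h2 hne c hc h3 h4
    by_cases h : c = 1
    · exact Or.inl h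
    · exact Or.inr (X.invol_unique h (ord4 c hc h3 h4) h3 h4 (hTR hc) hne (ord4 a ha h1 h2) h1 h2 (hTR ha))
  -- centralisers of `T`
  have centT : ∀ c ∈ X.R, (∀ t ∈ T, c * t = t * c) → ∃ t ∈ T, ∃ o ∈ O, c = t * o := by
    intro c hc hct
    have hF : (⟨c, hc⟩ : X.R) ∈ centralizer (Cfsg.fittingSubgroup ↥X.R : Set ↥X.R) := by
      have hle : Cfsg.fittingSubgroup ↥X.R ≤ centralizer ({⟨c, hc⟩} : Set ↥X.R) := by
        rw [Core.fittingSubgroup_eq_iSup_pCore]
        refine iSup_le fun p => ?_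
        have := Fact.mk p.2
        intro u hu
        rw [mem_centralizer_singleton_iff]
        refine Subtype.ext ?_
        show (u : S) * c = c * u
        by_cases hp2 : (p : ℕ) = 2
        · rw [hp2] at hu
          exact (hct _ (hT ▸ mem_map_of_mem X.R.subtype hu)).symm
        · have huO : (u : S) ∈ O := by
            refine hO ▸ mem_map_of_mem X.R.subtype (Core.le_pPrimeCore ?_ hu)
            obtain ⟨n, hn⟩ := IsPGroup.iff_card.mp (Core.pCore_isPGroup (p := (p : ℕ)) (G := ↥X.R))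
            rw [hn]
            exact ((Nat.coprime_primes p.2 Nat.prime_two).mpr hp2).pow_left n
          have := mem_centralizer_iff.mp (X.commute_of_b_fix (O : Set S) hOn hOb hc) _ huO
          exact this
      exact mem_centralizer_iff.mpr fun u hu => mem_centralizer_singleton_iff.mp (hle hu)
    have hmem := Core.centralizer_fittingSubgroup_le hF
    have hle2 : Cfsg.fittingSubgroup ↥X.R ≤ Cfsg.pCore 2 ↥X.R ⊔ Cfsg.pPrimeCore 2 ↥X.R := by
      rw [Core.fittingSubgroup_eq_iSup_pCore]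
      refine iSup_le fun p => ?_
      have := Fact.mk p.2
      by_cases hp2 : (p : ℕ) = 2
      · rw [hp2]; exact le_sup_left
      · refine le_sup_of_le_right (Core.le_pPrimeCore ?_)
        obtain ⟨n, hn⟩ := IsPGroup.iff_card.mp (Core.pCore_isPGroup (p := (p : ℕ)) (G := ↥X.R))
        rw [hn]
        exact ((Nat.coprime_primes p.2 Nat.prime_two).mpr hp2).pow_left n
    obtain ⟨t, ht, o, ho, e⟩ := mem_sup_of_normal_left.mp (hle2 hmem)
    exact ⟨t, hT ▸ mem_map_of_mem X.R.subtype ht, o, hO ▸ mem_map_of_mem X.R.subtype ho,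
      (congrArg Subtype.val e).symm⟩
  -- `b` moves `T`
  obtain ⟨t₁, ht₁, hmove⟩ : ∃ t ∈ T, D.b * t ≠ t * D.b := by
    by_contra hno
    push Not at hno
    have hall : ∀ r ∈ X.R, ∀ t ∈ T, r * t = t * r := fun r hr t ht =>
      (mem_centralizer_iff.mp (X.commute_of_b_fix (T : Set S) hTn hno hr) t ht).symm
    have hRb : ∀ r ∈ X.R, D.b * r = r * D.b := fun r hr => by
      obtain ⟨t, ht, o, ho, rfl⟩ := centT r hr (hall r hr)
      calc D.b * (t * o) = D.b * t * o := by group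
        _ = t * (D.b * o) := by rw [hno t ht, mul_assoc]
        _ = t * o * D.b := by rw [hOb o ho, mul_assoc]
    have := X.gen ⊥ (fun r hr => by
      rw [mem_bot, ← hRb r hr, mul_inv_cancel_right, mul_inv_cancel]) hx
    exact F.x1 (mem_bot.mp this)
  -- the centre of `T`
  let Z : Subgroup S := T ⊓ centralizer (T : Set S)
  have memZ : ∀ {a : S}, a ∈ Z ↔ a ∈ T ∧ ∀ t ∈ T, t * a = a * t := fun {a} =>
    ⟨fun h => ⟨h.1, fun t ht => mem_centralizer_iff.mp h.2 t ht⟩,
      fun h => ⟨h.1, mem_centralizer_iff.mpr h.2⟩⟩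
  have hZn : ∀ r ∈ X.R, ∀ a ∈ Z, r * a * r⁻¹ ∈ Z := by
    intro r hr a ha
    obtain ⟨haT, hac⟩ := memZ.mp ha
    refine memZ.mpr ⟨hTn r hr a haT, fun t ht => ?_⟩
    have := hac _ (hTn r⁻¹ (X.R.inv_mem hr) t ht)
    calc t * (r * a * r⁻¹) = r * ((r⁻¹ * t * r⁻¹⁻¹) * a) * r⁻¹ := by group
      _ = r * (a * (r⁻¹ * t * r⁻¹⁻¹)) * r⁻¹ := by rw [this]
      _ = r * a * r⁻¹ * t := by group
  have hbinv : ∀ t ∈ T, D.b⁻¹ * t * D.b ∈ T := fun t ht => by
    have := hTb _ (hTb t ht)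
    have e : D.b * (D.b * t * D.b⁻¹) * D.b⁻¹ = D.b ^ 3 * (D.b⁻¹ * t * D.b) * (D.b ^ 3)⁻¹ := by
      rw [pow_succ, pow_two]; group
    rwa [e, D.b3, one_mul, inv_one, mul_one] at this
  have hZb : ∀ a ∈ Z, D.b * a * D.b⁻¹ ∈ Z := by
    intro a ha
    obtain ⟨haT, hac⟩ := memZ.mp ha
    refine memZ.mpr ⟨hTb a haT, fun t ht => ?_⟩
    have := hac _ (hbinv t ht)
    calc t * (D.b * a * D.b⁻¹) = D.b * ((D.b⁻¹ * t * D.b) * a) * D.b⁻¹ := by group
      _ = D.b * (a * (D.b⁻¹ * t * D.b)) * D.b⁻¹ := by rw [this]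
      _ = D.b * a * D.b⁻¹ * t := by group
  have hZc := central Z inf_le_left (fun a ha c hc => (memZ.mp hc).2 a (memZ.mp ha).1) hZn hZb
  obtain ⟨j, hjZ, hj1⟩ : ∃ j ∈ Z, j ≠ 1 := by
    have : Nontrivial T := ⟨⟨t₁, ht₁⟩, 1, fun h => hmove (by
      rw [show t₁ = 1 from congrArg Subtype.val h, mul_one, one_mul])⟩
    have := hTp.center_nontrivial
    obtain ⟨a, ha⟩ := exists_ne (1 : center ↥T)
    refine ⟨((a : T) : S), memZ.mpr ⟨(a : T).2, fun t ht => ?_⟩, fun h => ha (Subtype.ext (Subtype.ext h))⟩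
    exact congrArg Subtype.val (mem_center_iff.mp a.2 ⟨t, ht⟩)
  obtain ⟨hjb, hjR⟩ := hZc j hjZ
  have hjj : j * j = 1 := ord4 j (memZ.mp hjZ).1 hjb hjR
  have Zsmall : ∀ a ∈ Z, a = 1 ∨ a = j := fun a ha =>
    tiny j (memZ.mp hjZ).1 hjb hjR hj1 a (memZ.mp ha).1 (hZc a ha).1 (hZc a ha).2
  -- commutators of `T` are central
  have hcls : ∀ u ∈ T, ∀ v ∈ T, u * v * u⁻¹ * v⁻¹ ∈ Z := by
    let Dd : Subgroup S := ⁅T, T⁆
    have hDT : Dd ≤ T := by
      rw [Subgroup.commutator_le]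
      intro u hu v hv
      exact T.mul_mem (T.mul_mem (T.mul_mem hu hv) (T.inv_mem hu)) (T.inv_mem hv)
    let Z2 : Subgroup S :=
      { carrier := {a | a ∈ T ∧ ∀ t ∈ T, a * t * a⁻¹ * t⁻¹ ∈ Z}
        mul_mem' := fun {a c} ha hc => ⟨T.mul_mem ha.1 hc.1, fun t ht => by
          obtain ⟨h1, h1'⟩ := memZ.mp (hc.2 t ht)
          have e : a * c * t * (a * c)⁻¹ * t⁻¹ =
              (a * (c * t * c⁻¹ * t⁻¹) * a⁻¹) * (a * t * a⁻¹ * t⁻¹) := by group
          rw [e, show a * (c * t * c⁻¹ * t⁻¹) * a⁻¹ = c * t * c⁻¹ * t⁻¹ by rw [h1' a ha.1]; group]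
          exact Z.mul_mem (hc.2 t ht) (ha.2 t ht)⟩
        one_mem' := ⟨T.one_mem, fun t _ => by simp [Z.one_mem]⟩
        inv_mem' := fun {a} ha => ⟨T.inv_mem ha.1, fun t ht => by
          obtain ⟨h1, h1'⟩ := memZ.mp (Z.inv_mem (ha.2 t ht))
          have e : a⁻¹ * t * a⁻¹⁻¹ * t⁻¹ = a⁻¹ * (a * t * a⁻¹ * t⁻¹)⁻¹ * a := by group
          rw [e, h1' a⁻¹ (T.inv_mem ha.1), inv_mul_cancel_right]
          exact Z.inv_mem (ha.2 t ht)⟩ }
    have hcen : ∀ a ∈ Z2, ∀ d ∈ Dd, a * d = d * a := by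
      intro a ha
      have hle : Dd ≤ centralizer ({a} : Set S) := by
        rw [Subgroup.commutator_le]
        intro u hu v hv
        rw [mem_centralizer_singleton_iff, commutatorElement_def]
        obtain ⟨cu, hcu⟩ : ∃ cu, cu = a * u * a⁻¹ * u⁻¹ := ⟨_, rfl⟩
        obtain ⟨cv, hcv⟩ : ∃ cv, cv = a * v * a⁻¹ * v⁻¹ := ⟨_, rfl⟩
        obtain ⟨hcuT, hcu'⟩ := memZ.mp (hcu ▸ ha.2 u hu)
        obtain ⟨hcvT, hcv'⟩ := memZ.mp (hcv ▸ ha.2 v hv)
        have eu : a * u * a⁻¹ = cu * u := by rw [hcu]; group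
        have ev : a * v * a⁻¹ = cv * v := by rw [hcv]; group
        have cc1 : Commute u cu := hcu' u hu
        have cc2 : Commute v cu := hcu' v hv
        have cc3 : Commute u cv := hcv' u hu
        have cc4 : Commute cu cv := hcv' cu hcuT
        have key : a * (u * v * u⁻¹ * v⁻¹) * a⁻¹ = u * v * u⁻¹ * v⁻¹ := by
          calc a * (u * v * u⁻¹ * v⁻¹) * a⁻¹ =
              (a * u * a⁻¹) * (a * v * a⁻¹) * (a * u * a⁻¹)⁻¹ * (a * v * a⁻¹)⁻¹ := by group
            _ = cu * (u * cv) * v * u⁻¹ * cu⁻¹ * v⁻¹ * cv⁻¹ := by rw [eu, ev]; group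
            _ = cv * (u * v * u⁻¹ * (cu * cu⁻¹)) * v⁻¹ * cv⁻¹ := by
                rw [cc3.eq]
                calc cu * (cv * u) * v * u⁻¹ * cu⁻¹ * v⁻¹ * cv⁻¹ =
                    (cu * cv) * (u * v * u⁻¹) * cu⁻¹ * v⁻¹ * cv⁻¹ := by group
                  _ = (cv * cu) * (u * v * u⁻¹) * cu⁻¹ * v⁻¹ * cv⁻¹ := by rw [cc4.eq]
                  _ = cv * (cu * (u * v * u⁻¹)) * cu⁻¹ * v⁻¹ * cv⁻¹ := by group
                  _ = cv * ((u * v * u⁻¹) * cu) * cu⁻¹ * v⁻¹ * cv⁻¹ := by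
                      rw [((cc1.mul_left cc2).mul_left cc1.inv_left).eq]
                  _ = _ := by group
            _ = cv * (u * v * u⁻¹ * v⁻¹) * cv⁻¹ := by group
            _ = u * v * u⁻¹ * v⁻¹ := by
                rw [← hcv' _ (T.mul_mem (T.mul_mem (T.mul_mem hu hv) (T.inv_mem hu)) (T.inv_mem hv)),
                  mul_inv_cancel_right]
        exact (mul_inv_eq_iff_eq_mul.mp key).symm
      exact fun d hd => (mem_centralizer_singleton_iff.mp (hle hd)).symm
    let A : Subgroup S := Z2 ⊓ Dd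
    have hAn : ∀ g : S, (∀ t ∈ T, g * t * g⁻¹ ∈ T) → (∀ t ∈ T, g⁻¹ * t * g ∈ T) →
        (∀ c ∈ Z, g * c * g⁻¹ ∈ Z) → ∀ a ∈ A, g * a * g⁻¹ ∈ A := by
      intro g h1 h2 h3 a ha
      refine ⟨⟨h1 a ha.1.1, fun t ht => ?_⟩, ?_⟩
      · have := h3 _ (ha.1.2 _ (h2 t ht))
        have e : g * (a * (g⁻¹ * t * g) * a⁻¹ * (g⁻¹ * t * g)⁻¹) * g⁻¹ =
            g * a * g⁻¹ * t * (g * a * g⁻¹)⁻¹ * t⁻¹ := by group
        rwa [e] at this
      · have hmap : Dd.map (MulAut.conj g).toMonoidHom ≤ Dd := by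
          show (⁅T, T⁆).map _ ≤ ⁅T, T⁆
          rw [Subgroup.map_commutator]
          exact commutator_mono (by rintro _ ⟨t, ht, rfl⟩; exact h1 t ht)
            (by rintro _ ⟨t, ht, rfl⟩; exact h1 t ht)
        exact hmap ⟨a, ha.2, rfl⟩
    have hAc := central A (fun a ha => ha.1.1) (fun a ha c hc => hcen a ha.1 c hc.2)
      (fun r hr => hAn r (hTn r hr) (fun t ht => by simpa using hTn r⁻¹ (X.R.inv_mem hr) t ht) (hZn r hr))
      (hAn D.b hTb hbinv hZb)
    -- the derived subgroup is central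
    intro u hu v hv
    by_contra hne
    obtain ⟨π, hπ⟩ : ∃ π : ↥T →* ↥T ⧸ center ↥T, π = QuotientGroup.mk' _ := ⟨_, rfl⟩
    have hπs : Function.Surjective π := hπ ▸ QuotientGroup.mk'_surjective _
    have : ((commutator ↥T).map π).Normal := Subgroup.Normal.map inferInstance π hπs
    have hker : ∀ d : ↥T, π d = 1 ↔ (d : S) ∈ Z := fun d => by
      rw [hπ, QuotientGroup.mk'_apply, QuotientGroup.eq_one_iff, mem_center_iff, memZ]
      exact ⟨fun h => ⟨d.2, fun t ht => congrArg Subtype.val (h ⟨t, ht⟩)⟩,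
        fun h g => Subtype.ext (h.2 g g.2)⟩
    have hN : (commutator ↥T).map π ≠ ⊥ := fun h => by
      have hm : π ⁅(⟨u, hu⟩ : ↥T), ⟨v, hv⟩⁆ = 1 := by
        rw [← mem_bot, ← h]
        exact mem_map_of_mem π (commutator_mem_commutator (mem_top _) (mem_top _))
      exact hne ((hker _).mp hm)
    obtain ⟨q, hq, hq1⟩ := (Subgroup.bot_or_exists_ne_one _).resolve_left
      (Fusion.pGroup_inf_center_ne_bot (hTp.to_quotient (center ↥T)) _ hN)
    obtain ⟨d, hd, rfl⟩ := hq.1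
    have hdA : (d : S) ∈ A := by
      refine ⟨⟨d.2, fun t ht => ?_⟩, ?_⟩
      · have := mem_center_iff.mp hq.2 (π ⟨t, ht⟩)
        have h1 : π (d * ⟨t, ht⟩ * d⁻¹ * (⟨t, ht⟩ : ↥T)⁻¹) = 1 := by
          rw [map_mul, map_mul, map_mul, map_inv, map_inv, ← this]; group
        exact (hker _).mp h1
      · have : (d : S) ∈ (commutator ↥T).map T.subtype := mem_map_of_mem _ hd
        rwa [map_subtype_commutator] at this
    exact hq1 ((hker d).mpr (memZ.mpr ⟨d.2, fun t ht => ((hAc _ hdA).2 t (hTR ht)).symm⟩))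
  have hsqT : ∀ u ∈ T, u * u = 1 ∨ u * u = j := by
    intro u hu
    refine Zsmall _ (memZ.mpr ⟨T.mul_mem hu hu, fun t ht => ?_⟩)
    obtain ⟨c, hc⟩ : ∃ c, c = u * t * u⁻¹ * t⁻¹ := ⟨_, rfl⟩
    have hcZ : c ∈ Z := hc ▸ hcls u hu t ht
    have hcu : u * c = c * u := (memZ.mp hcZ).2 u hu
    have hcc : c * c = 1 := by
      rcases Zsmall c hcZ with e | e <;> rw [e]
      · exact mul_one 1
      · exact hjj
    have e1 : u * t = c * (t * u) := by rw [hc]; group
    calc t * (u * u) = (c * c) * (t * u * u) := by rw [hcc, one_mul]; group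
      _ = c * (c * (t * u)) * u := by group
      _ = c * (u * t) * u := by rw [← e1]
      _ = (u * c) * (t * u) := by rw [hcu]; group
      _ = u * (c * (t * u)) := by group
      _ = u * u * t := by rw [← e1]; group
  -- the negative space of `j` is small
  obtain ⟨M, hM⟩ : ∃ M : Submodule (ZMod 3) E, M = LinearMap.ker (D.ρ j + LinearMap.id) := ⟨_, rfl⟩
  have memM : ∀ v, v ∈ M ↔ D.ρ j v = -v := fun v => by
    rw [hM, LinearMap.mem_ker, LinearMap.add_apply, LinearMap.id_apply, add_eq_zero_iff_eq_neg]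
  have jc : ∀ r ∈ X.R, ∀ v, D.ρ j (D.ρ r v) = D.ρ r (D.ρ j v) := fun r hr v => by
    rw [← D.rho_mul, hjR r hr, D.rho_mul]
  have hM81 : Nat.card M ≤ 81 := by
    obtain ⟨y, hy'⟩ : ∃ y, y = D.b * t₁ * D.b⁻¹ * t₁⁻¹ := ⟨_, rfl⟩
    have hyT : y ∈ T := hy' ▸ T.mul_mem (hTb t₁ ht₁) (T.inv_mem ht₁)
    have hy1 : y ≠ 1 := fun h => by
      rw [hy', mul_inv_eq_one] at h
      exact hmove (mul_inv_eq_iff_eq_mul.mp h)
    rcases hsqT y hyT with hyy | hyy
    · -- an involution: a four-group in `T`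
      obtain ⟨y₁, hy₁⟩ : ∃ y₁, y₁ = D.b * y * D.b⁻¹ := ⟨_, rfl⟩
      have tel : D.b * y₁ * D.b⁻¹ * y₁ * y = 1 := by
        have e : D.b * y₁ * D.b⁻¹ * y₁ * y = D.b ^ 3 * t₁ * (D.b ^ 3)⁻¹ * t₁⁻¹ := by
          rw [hy₁, hy', pow_succ, pow_two]; group
        rw [e, D.b3]; group
      have hy₁1 : y₁ * y₁ = 1 := by
        rw [hy₁]
        calc D.b * y * D.b⁻¹ * (D.b * y * D.b⁻¹) = D.b * (y * y) * D.b⁻¹ := by group
          _ = 1 := by rw [hyy]; group
      have hprod : D.b * y₁ * D.b⁻¹ = y * y₁ := by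
        calc D.b * y₁ * D.b⁻¹ = (D.b * y₁ * D.b⁻¹ * y₁ * y) * (y⁻¹ * y₁⁻¹) := by group
          _ = y * y₁ := by
              rw [tel, inv_eq_of_mul_eq_one_right hyy, inv_eq_of_mul_eq_one_right hy₁1, one_mul]
      obtain ⟨F', hFx, hFy⟩ := four_of_product (D := D) hy1 (fun h => by
        rw [← hy₁] at h
        rw [h, hyy, ← hy₁, h] at hprod
        exact hy1 hprod) hyy (by rw [← hy₁]; exact hprod)
      have hynZ : y ∉ Z := fun h => by
        have := (hZc y h).1
        have e : y₁ = y := by rw [hy₁, ← this, mul_inv_cancel_right]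
        rw [e, hyy] at hprod
        rw [show D.b * y * D.b⁻¹ = y from by rw [← this, mul_inv_cancel_right]] at hprod
        exact hy1 hprod
      obtain ⟨t', ht', hne'⟩ : ∃ t' ∈ T, t' * y ≠ y * t' := by
        by_contra hno
        push Not at hno
        exact hynZ (memZ.mpr ⟨hyT, hno⟩)
      have hsw : y * t' = j * (t' * y) := by
        rcases Zsmall _ (hcls y hyT t' ht') with h | h
        · exact absurd (by
            rw [mul_inv_eq_one, mul_inv_eq_iff_eq_mul] at h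
            exact h.symm) hne'
        · rw [mul_inv_eq_iff_eq_mul, mul_inv_eq_iff_eq_mul] at h
          rw [h, mul_assoc]
      let U : Submodule (ZMod 3) E := LinearMap.ker (D.ρ F'.x + LinearMap.id)
      have memU : ∀ v, v ∈ U ↔ D.ρ y v = -v := fun v => by
        simp [U, hFx, add_eq_zero_iff_eq_neg]
      have hU : Nat.card U ≤ 9 := F'.card_neg_x U fun u hu => by rw [hFx]; exact (memU u).mp hu
      have hyy' : ∀ v, D.ρ y (D.ρ y v) = v := fun v => by rw [← D.rho_mul, hyy, D.rho_one]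
      let f : M → U × U := fun v =>
        (⟨(v : E) - D.ρ y v, (memU _).mpr (by rw [map_sub, hyy']; abel)⟩,
          ⟨D.ρ t' ((v : E) + D.ρ y v), (memU _).mpr (by
            rw [← D.rho_mul, hsw, D.rho_mul, D.rho_mul, map_add, hyy']
            have hv := (memM v).mp v.2
            simp only [map_add, jc _ (hTR ht'), jc _ (hTR hyT), hv, map_neg]
            abel)⟩)
      have finj : Function.Injective f := by
        intro u v h
        simp only [f, Prod.mk.injEq, Subtype.mk.injEq] at h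
        have h2 := D.rho_injective _ h.2
        refine Subtype.ext ?_
        have t0 := three_smul_eq_zero (u : E)
        have t0' := three_smul_eq_zero (v : E)
        calc (u : E) = -(((u : E) - D.ρ y u) + ((u : E) + D.ρ y u)) := by
              calc (u : E) = u - (u + u + u) := by rw [t0, sub_zero]
                _ = _ := by abel
          _ = -(((v : E) - D.ρ y v) + ((v : E) + D.ρ y v)) := by rw [h.1, h2]
          _ = (v : E) := by
              calc _ = (v : E) - (v + v + v) := by abel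
                _ = _ := by rw [t0', sub_zero]
      have hle := Nat.card_le_card_of_injective f finj
      rw [Nat.card_prod] at hle
      exact hle.trans (Nat.mul_le_mul hU hU)
    · -- an element of order four
      let N := LinearMap.range D.N
      let f : M → N × N := fun v =>
        (⟨D.N (D.ρ (t₁ * D.b⁻¹ * t₁⁻¹) (v : E)), LinearMap.mem_range_self _ _⟩,
          ⟨-D.N (D.ρ (D.b⁻¹ * t₁⁻¹) (v : E)), N.neg_mem (LinearMap.mem_range_self _ _)⟩)
      have finj : Function.Injective f := by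
        intro u v h
        simp only [f, Prod.mk.injEq, Subtype.mk.injEq] at h
        have key : ∀ w : E, D.ρ y w - w =
            D.N (D.ρ (t₁ * D.b⁻¹ * t₁⁻¹) w) + D.ρ t₁ (-D.N (D.ρ (D.b⁻¹ * t₁⁻¹) w)) := by
          intro w
          rw [hy', Data.N_apply, Data.N_apply]
          simp only [D.rho_mul, map_neg, map_sub, D.rho_cancel_inv]
          abel
        have e : D.ρ y (u : E) - u = D.ρ y (v : E) - v := by rw [key, key, h.1, h.2]
        refine Subtype.ext (sub_eq_zero.mp ?_)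
        have hw : D.ρ y ((u : E) - v) = (u : E) - v := by
          rw [map_sub, sub_eq_sub_iff_sub_eq_sub.mp e]
        have hjw : D.ρ j ((u : E) - v) = -((u : E) - v) := (memM _).mp (M.sub_mem u.2 v.2)
        rw [← hyy, D.rho_mul, hw, hw] at hjw
        exact eq_zero_of_eq_neg hjw
      have hle := Nat.card_le_card_of_injective f finj
      rw [Nat.card_prod] at hle
      exact hle.trans (Nat.mul_le_mul D.card_range_le D.card_range_le)
  -- `R` is faithful on the negative space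
  have hRcard : Nat.card X.R ∣ 2 ^ 9 * 3 ^ 6 * 5 * 13 := by
    have hinvM : ∀ r : X.R, ∀ v ∈ M, D.ρ (r : S) v ∈ M := fun r v hv => by
      rw [memM] at hv ⊢
      rw [jc r r.2, hv, map_neg]
    let θ : ↥X.R →* Module.End (ZMod 3) M :=
      { toFun := fun r => (D.ρ (r : S)).restrict (hinvM r)
        map_one' := LinearMap.ext fun v => Subtype.ext (D.rho_one _)
        map_mul' := fun r s => LinearMap.ext fun v => Subtype.ext (D.rho_mul _ _ _) }
    have hθ : Function.Injective θ.toHomUnits := by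
      refine (injective_iff_map_eq_one _).mpr fun r hr => Subtype.ext (D.eq_one_of_fix fun v => ?_)
      have h1 : θ r = 1 := congrArg Units.val hr
      have hp := X.fix_pos hj1 hjj hjb hjR (hTR (memZ.mp hjZ).1) r r.2
      have hjv : D.ρ j (D.ρ j v) = v := by rw [← D.rho_mul, hjj, D.rho_one]
      have ea := hp (v + D.ρ j v) (by rw [map_add, hjv]; abel)
      have hcM : v - D.ρ j v ∈ M := (memM _).mpr (by rw [map_sub, hjv]; abel)
      have ec : D.ρ (r : S) (v - D.ρ j v) = v - D.ρ j v :=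
        congrArg Subtype.val (LinearMap.congr_fun h1 ⟨_, hcM⟩)
      have t0 := three_smul_eq_zero v
      have e : v = -((v + D.ρ j v) + (v - D.ρ j v)) := by
        calc v = v - (v + v + v) := by rw [t0, sub_zero]
          _ = _ := by abel
      rw [e, map_neg, map_add, ea, ec]
    obtain ⟨n, hn⟩ : ∃ n, Module.finrank (ZMod 3) M = n := ⟨_, rfl⟩
    have hn4 : n ≤ 4 := by
      have hc : Nat.card M = 3 ^ n := by
        have : Fintype M := Fintype.ofFinite _
        rw [Nat.card_eq_fintype_card, Module.card_eq_pow_finrank (K := ZMod 3), ZMod.card, hn]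
      rw [hc, show (81 : ℕ) = 3 ^ 4 from rfl] at hM81
      exact (Nat.pow_le_pow_iff_right (by norm_num)).mp hM81
    let e1 : Module.End (ZMod 3) M ≃* Matrix (Fin n) (Fin n) (ZMod 3) :=
      (algEquivMatrix (Module.finBasisOfFinrankEq (ZMod 3) M hn)).toMulEquiv
    have hinj : Function.Injective ((Units.mapEquiv e1).toMonoidHom.comp θ.toHomUnits) :=
      (Units.mapEquiv e1).injective.comp hθ
    exact (Subgroup.card_dvd_of_injective _ hinj).trans (card_gl_dvd hn4)
  have hTcard : ∃ c ≤ 9, Nat.card T = 2 ^ c := by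
    obtain ⟨c, hc⟩ := IsPGroup.iff_card.mp hTp
    refine ⟨c, ?_, hc⟩
    have h : 2 ^ c ∣ 2 ^ 9 := by
      refine Nat.Coprime.dvd_of_dvd_mul_right (k := 2 ^ c) (n := 3 ^ 6 * 5 * 13)
        (Nat.Coprime.pow_left _ (by norm_num)) ?_
      rw [← hc, ← mul_assoc, ← mul_assoc]
      exact (Subgroup.card_dvd_of_le hTR).trans hRcard
    exact (Nat.pow_dvd_pow_iff_le_right (by norm_num)).mp h
  -- odd Sylow subgroups commute with `b`
  have hodd : ∀ (q : ℕ) [Fact q.Prime], q ≠ 2 → ∀ Y : Subgroup S, Y ≤ X.R → IsPGroup q Y →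
      (∀ a ∈ Y, D.b * a * D.b⁻¹ ∈ Y) → ∀ a ∈ Y, D.b * a = a * D.b := by
    intro q hqp hq2 Y hYR hYp hYb
    obtain ⟨m, hm⟩ := IsPGroup.iff_card.mp hYp
    by_cases hTY : ∀ a ∈ Y, ∀ t ∈ T, a * t = t * a
    · intro a ha
      obtain ⟨t, ht, o, ho, e⟩ := centT a (hYR ha) (hTY a ha)
      suffices ht1 : t = 1 by rw [e, ht1, one_mul]; exact hOb o ho
      have hto : Commute o t := by
        have := mem_centralizer_iff.mp (X.commute_of_b_fix (O : Set S) hOn hOb (hTR ht)) o ho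
        exact this
      obtain ⟨k, hk⟩ := hTp.exists_orderOf_eq_pow ⟨t, ht⟩
      rw [Subgroup.orderOf_mk] at hk
      have hpa : a ^ Nat.card Y = 1 := congrArg Subtype.val (pow_card_eq_one' (G := Y) (x := ⟨a, ha⟩))
      have hpo : o ^ Nat.card O = 1 := congrArg Subtype.val (pow_card_eq_one' (G := O) (x := ⟨o, ho⟩))
      have e' : t = a * o⁻¹ := by rw [e]; group
      have hca : Commute a o⁻¹ := by
        rw [e]
        exact Commute.mul_left hto.symm.inv_right (Commute.inv_right (Commute.refl o))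
      have hd : orderOf t ∣ Nat.card Y * Nat.card O := by
        refine orderOf_dvd_of_pow_eq_one ?_
        rw [e', hca.mul_pow, pow_mul, hpa, one_pow, inv_pow, mul_comm (Nat.card Y), pow_mul, hpo, one_pow,
          inv_one, mul_one]
      have hcop : (orderOf t).Coprime (Nat.card Y * Nat.card O) := by
        rw [hk, hm]
        exact Nat.Coprime.pow_left _ (Nat.Coprime.mul_right
          (((Nat.coprime_primes Nat.prime_two hqp.out).mpr (Ne.symm hq2)).pow_right _)
          ((Nat.Prime.coprime_iff_not_dvd Nat.prime_two).mpr hOodd))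
      exact orderOf_eq_one_iff.mp (hcop.eq_one_of_dvd hd)
    push Not at hTY
    obtain ⟨a₀, ha₀, t₀, ht₀, hne⟩ := hTY
    -- the order is five
    have hY6 := X.coprime_six hYR (fun h => by
      rw [hm] at h
      exact hq2 ((Nat.prime_dvd_prime_iff_eq Nat.prime_two hqp.out).mp
        (Nat.prime_two.dvd_of_dvd_pow h)).symm) hX
    have hd : Nat.card Y ∣ 5 * 13 := by
      refine Nat.Coprime.dvd_of_dvd_mul_left (m := 2 ^ 9 * 3 ^ 6) ?_ ?_
      · exact Nat.Coprime.mul_right (hY6.coprime_dvd_right (by norm_num) |>.pow_right _)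
          (hY6.coprime_dvd_right (by norm_num) |>.pow_right _)
      · rw [← mul_assoc]
        exact (Subgroup.card_dvd_of_le hYR).trans hRcard
    have hY : Nat.card Y = 5 ∨ Nat.card Y = 13 := by
      have h1 : Nat.card Y ≠ 1 := fun h => hne (by
        rw [card_eq_one.mp h] at ha₀
        rw [mem_bot.mp ha₀, one_mul, mul_one])
      have h65 : Nat.card Y ≠ 65 := fun h => by
        rw [hm] at h
        have h5 : 5 ∣ q := Nat.Prime.dvd_of_dvd_pow (n := m) (by norm_num) (h ▸ by norm_num)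
        have h13 : 13 ∣ q := Nat.Prime.dvd_of_dvd_pow (n := m) (by norm_num) (h ▸ by norm_num)
        rw [← (Nat.prime_dvd_prime_iff_eq (by norm_num) hqp.out).mp h5] at h13
        norm_num at h13
      have hmem := Nat.mem_divisors.mpr ⟨hd, by norm_num⟩
      rw [show (5 * 13 : ℕ).divisors = {1, 5, 13, 65} by decide] at hmem
      simp only [Finset.mem_insert, Finset.mem_singleton] at hmem
      omega
    rcases hY with h5 | h13
    · intro a ha
      have : Fact (Nat.Prime 5) := ⟨by norm_num⟩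
      by_cases ha1 : a = 1
      · rw [ha1, mul_one, one_mul]
      have hord : orderOf a = 5 := by
        refine orderOf_eq_prime ?_ ha1
        rw [← h5]
        exact congrArg Subtype.val (pow_card_eq_one' (G := Y) (x := ⟨a, ha⟩))
      have hzp : zpowers a = Y := Subgroup.eq_of_le_of_card_ge (zpowers_le.mpr ha)
        (by rw [Nat.card_zpowers, hord, h5])
      obtain ⟨k, hk⟩ : ∃ k : ℕ, a ^ k = D.b * a * D.b⁻¹ := by
        have := hYb a ha
        rw [← hzp, ← mem_powers_iff_mem_zpowers] at this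
        exact Submonoid.mem_powers_iff _ _ |>.mp this
      have conj : ∀ n : ℕ, D.b * a ^ n * D.b⁻¹ = a ^ (k * n) := fun n => by
        rw [← conj_pow, ← hk, ← pow_mul]
      have h3 : a ^ (k * (k * k)) = a := by
        rw [← conj, ← conj, hk]
        have e : D.b * (D.b * (D.b * a * D.b⁻¹) * D.b⁻¹) * D.b⁻¹ = D.b ^ 3 * a * (D.b ^ 3)⁻¹ := by
          rw [pow_succ, pow_two]; group
        rw [e, D.b3]; group
      have hk5 : k % 5 = 1 := by
        have h := pow_eq_pow_iff_modEq.mp (h3.trans (pow_one a).symm)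
        rw [hord] at h
        have : (k % 5) * ((k % 5) * (k % 5)) % 5 = 1 := by
          rw [Nat.mul_mod, Nat.mod_mod, Nat.mul_mod (k % 5) (k % 5), Nat.mod_mod, ← Nat.mul_mod k k,
            ← Nat.mul_mod]
          exact h
        have hlt := Nat.mod_lt k (show 5 > 0 by norm_num)
        revert this
        generalize k % 5 = r at hlt ⊢
        intro this
        interval_cases r <;> omega
      have : D.b * a * D.b⁻¹ = a := by
        rw [← hk, ← pow_mod_orderOf, hord, hk5, pow_one]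
      exact mul_inv_eq_iff_eq_mul.mp this
    · exfalso
      have : Fact (Nat.Prime 13) := ⟨by norm_num⟩
      have hY13 : IsPGroup 13 Y := IsPGroup.of_card (n := 1) (by rw [h13, pow_one])
      letI : MulAction ↥Y ↥T :=
        { smul := fun a t => ⟨(a : S) * t * (a : S)⁻¹, hTn _ (hYR a.2) t t.2⟩
          one_smul := fun t => Subtype.ext (show (1 : S) * t * (1 : S)⁻¹ = t by simp)
          mul_smul := fun a c t => Subtype.ext (show ((a : S) * c) * t * ((a : S) * c)⁻¹ =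
            (a : S) * ((c : S) * t * (c : S)⁻¹) * (a : S)⁻¹ by group) }
      have hmod := hY13.card_modEq_card_fixedPoints (↥T)
      obtain ⟨c, hc, hTc⟩ := hTcard
      let C : Subgroup S := T ⊓ centralizer (Y : Set S)
      have e : Nat.card (MulAction.fixedPoints ↥Y ↥T) = Nat.card C := by
        refine Nat.card_congr ⟨fun t => ⟨((t.1 : ↥T) : S), ⟨(t.1 : ↥T).2, mem_centralizer_iff.mpr
            fun a ha => mul_inv_eq_iff_eq_mul.mp (congrArg Subtype.val (t.2 ⟨a, ha⟩))⟩⟩,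
          fun u => ⟨⟨(u : S), u.2.1⟩, fun a => Subtype.ext (show (a : S) * u * (a : S)⁻¹ = u by
            rw [mem_centralizer_iff.mp u.2.2 a a.2, mul_inv_cancel_right])⟩,
          fun t => rfl, fun u => rfl⟩
      obtain ⟨d, hd'⟩ := IsPGroup.iff_card.mp (hTp.to_le (inf_le_left : C ≤ T))
      have hdc : d ≤ c := (Nat.pow_dvd_pow_iff_le_right (by norm_num)).mp
        (hd' ▸ hTc ▸ Subgroup.card_dvd_of_le (inf_le_left : C ≤ T))
      rw [e, hd', hTc] at hmod
      have : d = c := by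
        unfold Nat.ModEq at hmod
        interval_cases c <;> interval_cases d <;> first | omega | (norm_num at hmod)
      have hCT : C = T := Subgroup.eq_of_le_of_card_ge inf_le_left (by rw [hd', hTc, this])
      rw [← hCT] at ht₀
      exact hne (mem_centralizer_iff.mp ht₀.2 a₀ ha₀)
  -- so `R` is the two-group `T`
  have hRT : X.R ≤ T := by
    have hTn' : T ≤ normalizer (X.R : Set S) := hTR.trans le_normalizer
    obtain ⟨K', hK'⟩ : ∃ K' : Subgroup ↥X.R, K' = (Cfsg.pPrimeCore 2 (↥X.R ⧸ Cfsg.pCore 2 ↥X.R)).comap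
        (QuotientGroup.mk' (Cfsg.pCore 2 ↥X.R)) := ⟨_, rfl⟩
    have hK'c : K'.Characteristic := by
      refine Subgroup.characteristic_iff_map_eq.mpr fun φ => ?_
      have hN : (Cfsg.pCore 2 ↥X.R).map (φ : ↥X.R →* ↥X.R) = Cfsg.pCore 2 ↥X.R := Core.map_pCore φ
      obtain ⟨ψ, hψ⟩ : ∃ ψ : (↥X.R ⧸ Cfsg.pCore 2 ↥X.R) ≃* (↥X.R ⧸ Cfsg.pCore 2 ↥X.R),
          ψ = QuotientGroup.congr _ _ φ hN := ⟨_, rfl⟩
      have key := Core.map_pPrimeCore (p := 2) ψ
      ext u
      rw [Subgroup.mem_map_equiv, hK', Subgroup.mem_comap, Subgroup.mem_comap]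
      conv_rhs => rw [← key, Subgroup.mem_map_equiv]
      have : ψ.symm (QuotientGroup.mk' _ u) = QuotientGroup.mk' _ (φ.symm u) := by
        rw [MulEquiv.symm_apply_eq, hψ, QuotientGroup.mk'_apply, QuotientGroup.mk'_apply,
          QuotientGroup.congr_mk, MulEquiv.apply_symm_apply]
      rw [this]
    obtain ⟨K, hK⟩ : ∃ K : Subgroup S, K = K'.map X.R.subtype := ⟨_, rfl⟩
    have hKR : K ≤ X.R := hK ▸ map_subtype_le _
    have hKn : ∀ r ∈ X.R, ∀ a ∈ K, r * a * r⁻¹ ∈ K := hK ▸ X.normal_map _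
    have hKb : ∀ a ∈ K, D.b * a * D.b⁻¹ ∈ K := hK ▸ X.normalizes_of_char _ hK'c
    -- the fixed subgroup modulo `T`
    let W : Subgroup S :=
      { carrier := {g | g ∈ X.R ∧ D.b * g * D.b⁻¹ * g⁻¹ ∈ T}
        mul_mem' := fun {a c} ha hc => ⟨X.R.mul_mem ha.1 hc.1, by
          have e : D.b * (a * c) * D.b⁻¹ * (a * c)⁻¹ =
              (D.b * a * D.b⁻¹ * a⁻¹) * (a * (D.b * c * D.b⁻¹ * c⁻¹) * a⁻¹) := by group
          rw [e]
          exact T.mul_mem ha.2 (hTn a ha.1 _ hc.2)⟩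
        one_mem' := ⟨X.R.one_mem, by simp [T.one_mem]⟩
        inv_mem' := fun {a} ha => ⟨X.R.inv_mem ha.1, by
          have e : D.b * a⁻¹ * D.b⁻¹ * a⁻¹⁻¹ = a⁻¹ * (D.b * a * D.b⁻¹ * a⁻¹)⁻¹ * a⁻¹⁻¹ := by group
          rw [e]
          exact hTn _ (X.R.inv_mem ha.1) _ (T.inv_mem ha.2)⟩ }
    have hcopK : (Nat.card ↥(zpowers D.b)).Coprime (Nat.card K) := by
      have h1 : Nat.card ↥(zpowers D.b) ∣ 3 := by
        rw [Nat.card_zpowers]; exact orderOf_dvd_of_pow_eq_one D.b3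
      exact (((Nat.Prime.coprime_iff_not_dvd Nat.prime_three).mpr
        fun h => hX (h.trans (Subgroup.card_dvd_of_le hKR))).coprime_dvd_left h1)
    have hnormK : zpowers D.b ≤ normalizer (K : Set S) := zpowers_le.mpr (by
      rw [mem_normalizer_iff]
      refine fun u => ⟨hKb u, fun hu => ?_⟩
      have := hKb _ (hKb _ hu)
      have e : D.b * (D.b * (D.b * u * D.b⁻¹) * D.b⁻¹) * D.b⁻¹ = D.b ^ 3 * u * (D.b ^ 3)⁻¹ := by
        rw [pow_succ, pow_two]; group
      rwa [e, D.b3, one_mul, inv_one, mul_one] at this)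
    have hKsolv : Group.IsSolvable K := inferInstance
    have hKW : K ≤ W := Coprime.le_of_forall_sylow_le fun q hq => by
      have := Fact.mk hq
      obtain ⟨P, hP⟩ := Coprime.exists_invariant_sylow hnormK hcopK (Or.inr hKsolv) q
      refine ⟨P, fun a ha => ?_⟩
      have haK : a ∈ K := map_subtype_le _ ha
      refine ⟨hKR haK, ?_⟩
      by_cases hq2 : q = 2
      · subst hq2
        have inT : ∀ c, c ∈ (P : Subgroup K).map K.subtype → c ∈ T := by
          intro c hc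
          have hcK : c ∈ K := map_subtype_le _ hc
          obtain ⟨c', hc', hcv⟩ : ∃ c' ∈ K', (c' : S) = c := by
            rw [hK] at hcK
            exact hcK
          obtain ⟨k, hk⟩ := (P.2.map K.subtype).exists_orderOf_eq_pow ⟨c, hc⟩
          rw [Subgroup.orderOf_mk, ← hcv, Subgroup.orderOf_coe] at hk
          rw [hK', Subgroup.mem_comap] at hc'
          have hd := (orderOf_map_dvd (QuotientGroup.mk' (Cfsg.pCore 2 ↥X.R)) c').trans hk.dvd
          have hd2 : orderOf (QuotientGroup.mk' (Cfsg.pCore 2 ↥X.R) c') ∣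
              Nat.card (Cfsg.pPrimeCore 2 (↥X.R ⧸ Cfsg.pCore 2 ↥X.R)) := by
            refine orderOf_dvd_of_pow_eq_one ?_
            exact congrArg Subtype.val
              (pow_card_eq_one' (G := Cfsg.pPrimeCore 2 (↥X.R ⧸ Cfsg.pCore 2 ↥X.R)) (x := ⟨_, hc'⟩))
          have hone : orderOf (QuotientGroup.mk' (Cfsg.pCore 2 ↥X.R) c') = 1 :=
            Nat.eq_one_of_dvd_coprimes ((Core.coprime_card_pPrimeCore (p := 2)).symm.pow_left k) hd hd2
          rw [orderOf_eq_one_iff, QuotientGroup.mk'_apply, QuotientGroup.eq_one_iff] at hone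
          rw [hT, ← hcv]
          exact mem_map_of_mem _ hone
        exact T.mul_mem (hTb a (inT a ha)) (T.inv_mem (inT a ha))
      · have := hodd q hq2 ((P : Subgroup K).map K.subtype) ((map_subtype_le _).trans hKR)
          (P.2.map _) (fun c hc => (mem_normalizer_iff.mp (hP (mem_zpowers D.b)) c).mp hc) a ha
        rw [this, mul_inv_cancel_right, mul_inv_cancel]
        exact T.one_mem
    -- elements of `R` act trivially on `K` modulo `T`
    have hKc : ∀ r ∈ X.R, ∀ k ∈ K,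
        (r * D.b * r⁻¹ * D.b⁻¹) * k * (r * D.b * r⁻¹ * D.b⁻¹)⁻¹ * k⁻¹ ∈ T := by
      intro r hr k hk
      have hk2 : D.b⁻¹ * k * D.b ∈ K := by
        rw [← inv_inv D.b]
        simpa using (mem_normalizer_iff.mp (hnormK ((zpowers D.b).inv_mem (mem_zpowers D.b))) k).mp hk
      obtain ⟨k₁, hk₁⟩ : ∃ k₁, k₁ = r⁻¹ * (D.b⁻¹ * k * D.b) * r⁻¹⁻¹ := ⟨_, rfl⟩
      have hk₁K : k₁ ∈ K := hk₁ ▸ hKn _ (X.R.inv_mem hr) _ hk2
      have h1 := hTn r hr _ (hKW hk₁K).2
      have h2 : (D.b⁻¹ * k * D.b) * k⁻¹ ∈ T := by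
        have h3 := (hKW hk2).2
        have e : D.b * (D.b⁻¹ * k * D.b) * D.b⁻¹ * (D.b⁻¹ * k * D.b)⁻¹ =
            ((D.b⁻¹ * k * D.b) * k⁻¹)⁻¹ := by group
        rw [e] at h3
        exact inv_mem_iff.mp h3
      have e : (r * D.b * r⁻¹ * D.b⁻¹) * k * (r * D.b * r⁻¹ * D.b⁻¹)⁻¹ * k⁻¹ =
          (r * (D.b * k₁ * D.b⁻¹ * k₁⁻¹) * r⁻¹) * ((D.b⁻¹ * k * D.b) * k⁻¹) := by
        rw [hk₁]; group
      rw [e]
      exact T.mul_mem h1 h2
    have hRK : X.R ≤ K := X.gen _ fun r hr => by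
      have hcR : r * D.b * r⁻¹ * D.b⁻¹ ∈ X.R := by
        have := X.R.mul_mem hr (X.bR _ (X.R.inv_mem hr))
        simpa [mul_assoc] using this
      obtain ⟨c, hc⟩ : ∃ c : X.R, c = ⟨_, hcR⟩ := ⟨_, rfl⟩
      have hmem : QuotientGroup.mk' (Cfsg.pCore 2 ↥X.R) c ∈
          centralizer (Cfsg.pPrimeCore 2 (↥X.R ⧸ Cfsg.pCore 2 ↥X.R) : Set _) := by
        rw [mem_centralizer_iff]
        intro q hq
        obtain ⟨u, rfl⟩ := QuotientGroup.mk'_surjective (Cfsg.pCore 2 ↥X.R) q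
        have huK : (u : S) ∈ K := hK ▸ mem_map_of_mem _ (hK' ▸ hq)
        have h := hKc r hr u huK
        have hu : c * u * c⁻¹ * u⁻¹ ∈ Cfsg.pCore 2 ↥X.R := by
          rw [hT] at h
          obtain ⟨w, hw, e⟩ := h
          have : w = c * u * c⁻¹ * u⁻¹ := Subtype.ext (by rw [hc]; exact e)
          exact this ▸ hw
        have h1 : QuotientGroup.mk' (Cfsg.pCore 2 ↥X.R) (c * u * c⁻¹ * u⁻¹) = 1 :=
          (QuotientGroup.eq_one_iff _).mpr hu
        rw [map_mul, map_mul, map_mul, map_inv, map_inv, mul_inv_eq_one, mul_inv_eq_iff_eq_mul] at h1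
        exact h1.symm
      have : Group.IsSolvable (↥X.R ⧸ Cfsg.pCore 2 ↥X.R) :=
        Group.isSolvable_of_surjective (QuotientGroup.mk'_surjective (Cfsg.pCore 2 ↥X.R))
      have hin := Core.centralizer_pPrimeCore_le
        (Fusion.isPSolvable_of_isSolvable (p := 2) _) Core.pCore_quotient_eq_bot hmem
      rw [hK]
      exact ⟨c, hK' ▸ hin, by rw [hc]; rfl⟩
    refine X.gen _ fun r hr => ?_
    have h := (hKW (hRK hr)).2
    have h' := T.inv_mem h
    have e : r * D.b * r⁻¹ * D.b⁻¹ = (D.b * r * D.b⁻¹ * r⁻¹)⁻¹ := by group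
    rw [e]
    exact h'
  refine ⟨F, hx, hy, Or.inr ⟨j, hx, hy, hTR (memZ.mp hjZ).1, hj1, hjj, hjb, hjR,
    fun r hr => hsqT r (hRT hr), fun c hc hcc => ?_⟩⟩
  exact Zsmall c (memZ.mpr ⟨hRT hc, fun t ht => (hcc t (hTR ht)).symm⟩)

end Setup

end Cfsg.Agent.CubicBlock
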